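import Groth.Agent.H18.FEquidim.Basic
import Groth.Agent.H18.CMPoly
import Groth.Agent.Lib.Cohen.Presentation
import Groth.Agent.Lib.JacCrit.FlatRegular
import Groth.Agent.Lib.Excellent.QuotientFibre
import Groth.Agent.Lib.Excellent.CompletionNoetherian
import Groth.Agent.Lib.Regular.Completion
import Mathlib.RingTheory.AdicCompletion.AsTensorProduct
import Mathlib.RingTheory.TensorProduct.Quotient

/-!
# Formally equidimensional local rings (EGA IV 7.1)
-/

set_option linter.style.haveILetI false

universe u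

open IsLocalRing TensorProduct

namespace Groth.Agent.H18.FEquidim.Cpl

/-- A complete Noetherian local ring is universally catenary. -/
theorem isUniversallyCatenary_of_complete (R : Type u) [CommRing R] [IsLocalRing R]
    [IsNoetherianRing R] [IsAdicComplete (maximalIdeal R) R] : CAlg.IsUniversallyCatenary R := by
  obtain ⟨Λ, _, n, g, -, hreg, hg⟩ := Lib.Cohen.Presentation.exists_surjective_mvPowerSeries R
  have : LocCoh.IsCohenMacaulayLocalRing (MvPowerSeries (Fin n) Λ) :=
    Lib.JacCrit.FlatRegular.isCohenMacaulayLocalRing _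
  have : LocCoh.IsCohenMacaulayRing (MvPowerSeries (Fin n) Λ) :=
    { isCohenMacaulayLocalRing_localization := fun p _ =>
        Lib.Depth.CM.isCohenMacaulayLocalRing_localization p }
  have h := CMPoly.isUniversallyCatenary (MvPowerSeries (Fin n) Λ)
  letI := g.toAlgebra
  refine ⟨inferInstance, fun S _ _ hS => ?_⟩
  letI : Algebra (MvPowerSeries (Fin n) Λ) S := ((algebraMap R S).comp g).toAlgebra
  haveI : IsScalarTower (MvPowerSeries (Fin n) Λ) R S := .of_algebraMap_eq' rfl
  have : Module.Finite (MvPowerSeries (Fin n) Λ) R :=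
    Module.Finite.of_surjective (Algebra.linearMap _ R) hg
  exact h.2 S (Algebra.FiniteType.trans (inferInstance : Algebra.FiniteType _ R) hS)

variable {A : Type u} [CommRing A] [IsLocalRing A] [IsNoetherianRing A]

theorem isUniversallyCatenary_cpl : CAlg.IsUniversallyCatenary (EGA4.Cpl A) := by
  have : IsAdicComplete (maximalIdeal (EGA4.Cpl A)) (EGA4.Cpl A) := by
    rw [AdicCompletion.maximalIdeal_eq_map]
    exact AdicCompletion.isAdicComplete_self _ (Ideal.fg_of_isNoetherianRing _)
  exact isUniversallyCatenary_of_complete _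

theorem isCatenary_cpl : CAlg.IsCatenary (EGA4.Cpl A) :=
  (isUniversallyCatenary_cpl (A := A)).2 _ inferInstance

theorem fibre_dim : ringKrullDim (EGA4.FibRing A (EGA4.Cpl A)) = 0 := by
  have hmax : (EGA4.mB A (EGA4.Cpl A)).IsMaximal := by
    rw [EGA4.mB, ← AdicCompletion.maximalIdeal_eq_map]; infer_instance
  have : IsField (EGA4.FibRing A (EGA4.Cpl A)) :=
    (Ideal.Quotient.maximal_ideal_iff_isField_quotient _).mp hmax
  exact ringKrullDim_eq_zero_of_isField this

theorem isLocalHom_cpl : IsLocalHom (algebraMap A (EGA4.Cpl A)) := by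
  refine ((local_hom_TFAE (algebraMap A (EGA4.Cpl A))).out 0 2).mpr ?_
  rw [AdicCompletion.maximalIdeal_eq_map]

/-- The completion of a quotient. -/
theorem exists_quotEquiv (a : Ideal A) [Nontrivial (A ⧸ a)] :
    Nonempty (EGA4.Cpl A ⧸ a.map (algebraMap A (EGA4.Cpl A)) ≃+* EGA4.Cpl (A ⧸ a)) := by
  obtain ⟨e⟩ := Lib.Excellent.QuotientFibre.exists_cplEquiv A a
  exact ⟨((Algebra.TensorProduct.quotIdealMapEquivTensorQuot (EGA4.Cpl A) a).toRingEquiv.trans
    (Algebra.TensorProduct.comm A _ _).toRingEquiv).trans e.toRingEquiv⟩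

theorem isFormallyEquidim_quotient_iff_map (a : Ideal A) [Nontrivial (A ⧸ a)] :
    EGA4.IsFormallyEquidim (A ⧸ a) ↔
      EGA4.IsEquidim (EGA4.Cpl A ⧸ a.map (algebraMap A (EGA4.Cpl A))) := by
  obtain ⟨e⟩ := exists_quotEquiv a
  exact ⟨Basic.isEquidim_of_ringEquiv e.symm, Basic.isEquidim_of_ringEquiv e⟩

/-- A formally equidimensional local ring is equidimensional and catenary. -/
theorem of_isFormallyEquidim (h : EGA4.IsFormallyEquidim A) :
    EGA4.IsEquidim A ∧ CAlg.IsCatenary A := by
  have := isLocalHom_cpl (A := A)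
  exact ⟨Basic.isEquidim (B := EGA4.Cpl A) h isCatenary_cpl,
    Basic.isCatenary (B := EGA4.Cpl A) h isCatenary_cpl⟩

/-- For a formally equidimensional ring, quotients are equidimensional iff formally so. -/
theorem isFormallyEquidim_quotient_iff (h : EGA4.IsFormallyEquidim A) (a : Ideal A)
    [Nontrivial (A ⧸ a)] : EGA4.IsEquidim (A ⧸ a) ↔ EGA4.IsFormallyEquidim (A ⧸ a) := by
  have := isLocalHom_cpl (A := A)
  rw [isFormallyEquidim_quotient_iff_map,
    Basic.equidim_quotient_map_iff (B := EGA4.Cpl A) h isCatenary_cpl a]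

theorem isEquidim_of_isDomain {R : Type u} [CommRing R] [IsDomain R] : EGA4.IsEquidim R := by
  intro p hp
  have : p = ⊥ := le_bot_iff.mp (hp.2 ⟨Ideal.isPrime_bot, le_rfl⟩ bot_le)
  subst this
  exact ringKrullDim_eq_of_ringEquiv (RingEquiv.quotientBot R)

/-- Formal equidimensionality is detected on the minimal primes. -/
theorem isFormallyEquidim_iff :
    EGA4.IsFormallyEquidim A ↔ (EGA4.IsEquidim A ∧
      ∀ (p : Ideal A) [p.IsPrime], p ∈ minimalPrimes A → EGA4.IsFormallyEquidim (A ⧸ p)) := by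
  constructor
  · intro h
    refine ⟨(of_isFormallyEquidim h).1, fun p _ _ => ?_⟩
    exact (isFormallyEquidim_quotient_iff h p).mp isEquidim_of_isDomain
  · rintro ⟨heq, hp⟩ P hP
    have := hP.1.1
    set p := P.under A with hpdef
    have hpmin : p ∈ minimalPrimes A := by
      refine ⟨⟨inferInstance, bot_le⟩, fun q hq hqp => ?_⟩
      have := hq.1
      obtain ⟨Q, hQP, hQ, hQo⟩ := P.exists_ideal_le_liesOver_of_le (p := q) (q := p) hqp
      have : P ≤ Q := hP.2 ⟨hQ, bot_le⟩ hQP
      rw [hQo.over]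
      exact Ideal.comap_mono this
    have hPp : P ∈ (p.map (algebraMap A (EGA4.Cpl A))).minimalPrimes :=
      ⟨⟨inferInstance, Ideal.map_comap_le⟩, fun Q hQ hQP => hP.2 ⟨hQ.1, bot_le⟩ hQP⟩
    obtain ⟨e⟩ := exists_quotEquiv p
    have h1 := (isFormallyEquidim_quotient_iff_map p).mp (hp p hpmin)
    rw [Basic.isEquidim_quotient_iff] at h1
    have h2 := Basic.ringKrullDim_quotient_of_forall hPp fun q hq => (h1 q hq P hPp).le
    rw [← h2, ringKrullDim_eq_of_ringEquiv e,
      Lib.Regular.Completion.ringKrullDim_eq _ (maximalIdeal.isMaximal (A ⧸ p)).ne_top,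
      heq p hpmin,
      Lib.Regular.Completion.ringKrullDim_eq _ (maximalIdeal.isMaximal A).ne_top]

end Groth.Agent.H18.FEquidim.Cpl
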