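import Groth.Prelude.Def_EGA4b
import Groth.Agent.Lib.Excellent.CatenaryDim
import Groth.Agent.H18.CatDim
import Mathlib.RingTheory.Ideal.KrullsHeightTheorem
import Mathlib.RingTheory.Ideal.GoingDown

/-!
# Equidimensional catenary rings along flat local homomorphisms (EGA IV 7.1)
-/

set_option linter.style.haveILetI false

universe u

open IsLocalRing

namespace Groth.Agent.H18.FEquidim.Basic

theorem exists_nat_dim (A : Type u) [CommRing A] [IsLocalRing A] [IsNoetherianRing A] :
    ∃ n : ℕ, ringKrullDim A = ((n : ℕ∞) : WithBot ℕ∞) :=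
  ⟨(maximalIdeal A).height.toNat, by
    rw [ENat.natCast_toNat (Ideal.height_ne_top Ideal.IsPrime.ne_top'),
      maximalIdeal_height_eq_ringKrullDim]⟩

theorem ringKrullDim_quotient_congr {R S : Type u} [CommRing R] [CommRing S] (f : R →+* S)
    (hf : Function.Surjective f) (P : Ideal S) :
    ringKrullDim (S ⧸ P) = ringKrullDim (R ⧸ P.comap f) := by
  let g := (Ideal.Quotient.mk P).comp f
  have hg : Function.Surjective g := Ideal.Quotient.mk_surjective.comp hf
  have hk : RingHom.ker g = P.comap f := by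
    rw [← RingHom.comap_ker, Ideal.mk_ker]
  exact (ringKrullDim_eq_of_ringEquiv
    ((Ideal.quotEquivOfEq hk.symm).trans (RingHom.quotientKerEquivOfSurjective hg))).symm

theorem ringKrullDim_quotient_of_forall {R : Type u} [CommRing R] {a : Ideal R}
    {p : Ideal R} (hp : p ∈ a.minimalPrimes)
    (h : ∀ q ∈ a.minimalPrimes, ringKrullDim (R ⧸ q) ≤ ringKrullDim (R ⧸ p)) :
    ringKrullDim (R ⧸ a) = ringKrullDim (R ⧸ p) := by
  refine le_antisymm ?_ (ringKrullDim_le_of_surjective (Ideal.Quotient.factor hp.1.2)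
    (Ideal.Quotient.factor_surjective hp.1.2))
  rw [ringKrullDim_quotient a, Order.krullDim]
  refine iSup_le fun s => ?_
  have := s.head.1.2
  obtain ⟨q, hq, hqs⟩ := Ideal.exists_minimalPrimes_le (J := s.head.1.asIdeal) s.head.2
  refine le_trans ?_ (h q hq)
  have hmem : ∀ i, (s i).1 ∈ PrimeSpectrum.zeroLocus (q : Set R) := fun i =>
    hqs.trans (LTSeries.monotone s (Fin.zero_le i))
  rw [ringKrullDim_quotient]
  exact le_iSup_of_le (LTSeries.mk s.length (fun i => (⟨(s i).1, hmem i⟩ : PrimeSpectrum.zeroLocus _))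
    fun i j hij => s.strictMono hij) le_rfl

theorem minimalPrimes_quotient {R : Type u} [CommRing R] (a : Ideal R) :
    a.minimalPrimes = Ideal.comap (Ideal.Quotient.mk a) '' minimalPrimes (R ⧸ a) := by
  rw [minimalPrimes_eq_minimals]
  have := Ideal.comap_minimalPrimes_eq_of_surjective
    (f := Ideal.Quotient.mk a) Ideal.Quotient.mk_surjective ⊥
  rw [← RingHom.ker_eq_comap_bot, Ideal.mk_ker] at this
  rw [this, ← minimalPrimes_eq_minimals]

/-- Equidimensionality of a quotient in terms of the minimal primes over the ideal. -/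
theorem isEquidim_quotient_iff {R : Type u} [CommRing R] (a : Ideal R) :
    EGA4.IsEquidim (R ⧸ a) ↔
      ∀ p ∈ a.minimalPrimes, ∀ q ∈ a.minimalPrimes, ringKrullDim (R ⧸ p) = ringKrullDim (R ⧸ q) := by
  have hdim : ∀ P : Ideal (R ⧸ a), ringKrullDim ((R ⧸ a) ⧸ P) =
      ringKrullDim (R ⧸ P.comap (Ideal.Quotient.mk a)) :=
    fun P => ringKrullDim_quotient_congr _ Ideal.Quotient.mk_surjective P
  rw [minimalPrimes_quotient, Set.forall_mem_image]
  simp only [Set.forall_mem_image]
  constructor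
  · intro h P hP Q hQ
    rw [← hdim, ← hdim, h P hP, h Q hQ]
  · intro h P hP
    rw [hdim]
    have hP' : P.comap (Ideal.Quotient.mk a) ∈ a.minimalPrimes := by
      rw [minimalPrimes_quotient]; exact ⟨P, hP, rfl⟩
    refine (ringKrullDim_quotient_of_forall hP' ?_).symm
    rw [minimalPrimes_quotient, Set.forall_mem_image]
    exact fun Q hQ => (h hQ hP).le

theorem isEquidim_of_ringEquiv {R S : Type u} [CommRing R] [CommRing S] (e : R ≃+* S)
    (h : EGA4.IsEquidim R) : EGA4.IsEquidim S := by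
  intro P hP
  rw [ringKrullDim_quotient_congr e.toRingHom e.surjective P, ← ringKrullDim_eq_of_ringEquiv e]
  refine h _ ?_
  have := hP.1.1
  refine ⟨⟨inferInstance, bot_le⟩, fun Q hQ hQP x hx => ?_⟩
  have := hQ.1
  have h' : P ≤ Q.comap e.symm.toRingHom := hP.2 ⟨inferInstance, bot_le⟩ fun y hy => by
    have := hQP hy
    simpa [Ideal.mem_comap] using Ideal.mem_comap.mp this
  simpa using h' hx

theorem isEquidim_iff {R : Type u} [CommRing R] :
    EGA4.IsEquidim R ↔ ∀ p ∈ minimalPrimes R, ∀ q ∈ minimalPrimes R,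
      ringKrullDim (R ⧸ p) = ringKrullDim (R ⧸ q) := by
  constructor
  · intro h p hp q hq
    rw [h p hp, h q hq]
  · intro h
    exact isEquidim_of_ringEquiv (RingEquiv.quotientBot R) ((isEquidim_quotient_iff ⊥).mpr h)

section Flat

variable {A B : Type u} [CommRing A] [CommRing B] [Algebra A B] [Module.Flat A B]

theorem under_eq_of_minimal {p : Ideal A} [p.IsPrime] {P : Ideal B}
    (hP : P ∈ (p.map (algebraMap A B)).minimalPrimes) : P.under A = p := by
  have := hP.1.1
  have hle : p ≤ P.under A := Ideal.map_le_iff_le_comap.mp hP.1.2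
  obtain ⟨Q, hQP, hQ, hQo⟩ := P.exists_ideal_le_liesOver_of_le (p := p) (q := P.under A) hle
  have : Q = P := le_antisymm hQP (hP.2 ⟨hQ, Ideal.map_le_iff_le_comap.mpr hQo.over.le⟩ hQP)
  rw [← this, ← hQo.over]

theorem height_eq_of_minimal [IsNoetherianRing A] [IsNoetherianRing B] {p : Ideal A} [p.IsPrime] {P : Ideal B}
    (hP : P ∈ (p.map (algebraMap A B)).minimalPrimes) : P.height = p.height := by
  have := hP.1.1
  have : P.LiesOver p := ⟨(under_eq_of_minimal hP).symm⟩
  rw [Ideal.height_eq_height_add_of_liesOver_of_hasGoingDown p P]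
  have hpr : (P.map (Ideal.Quotient.mk (p.map (algebraMap A B)))).IsPrime :=
    Ideal.map_isPrime_of_surjective Ideal.Quotient.mk_surjective (by rw [Ideal.mk_ker]; exact hP.1.2)
  have h0 : (P.map (Ideal.Quotient.mk (p.map (algebraMap A B)))).height = 0 := by
    rw [Ideal.height_eq_zero_iff]
    refine ⟨⟨hpr, bot_le⟩, fun Q hQ hQP => ?_⟩
    have := hQ.1
    refine (Ideal.map_mono (hP.2 ⟨inferInstance, fun x hx => ?_⟩ ?_)).trans
      (Ideal.map_comap_le (f := Ideal.Quotient.mk (p.map (algebraMap A B))) (K := Q))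
    · rw [Ideal.mem_comap, Ideal.Quotient.eq_zero_iff_mem.mpr hx]; exact Q.zero_mem
    · intro x hx
      have := hQP hx
      rwa [← Ideal.mem_comap, Ideal.comap_map_of_surjective' _ Ideal.Quotient.mk_surjective,
        Ideal.mk_ker, sup_eq_left.mpr hP.1.2] at this
  rw [h0, add_zero]

variable [IsNoetherianRing A] [IsNoetherianRing B] [IsLocalRing A] [IsLocalRing B]
  [IsLocalHom (algebraMap A B)]

omit [IsNoetherianRing A] in
theorem map_fibre_eq : (maximalIdeal B).map (Ideal.Quotient.mk ((maximalIdeal A).map (algebraMap A B)))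
    = maximalIdeal (EGA4.FibRing A B) := by
  refine (IsLocalRing.eq_maximalIdeal ?_)
  exact Ideal.IsMaximal.map_of_surjective_of_ker_le Ideal.Quotient.mk_surjective
    (by rw [Ideal.mk_ker]; exact map_maximalIdeal_le _)

/-- `dim B = dim A + dim (B / m_A B)`. -/
theorem ringKrullDim_eq_add : ringKrullDim B = ringKrullDim A + ringKrullDim (EGA4.FibRing A B) := by
  have : (maximalIdeal B).LiesOver (maximalIdeal A) :=
    ⟨(maximalIdeal_comap (algebraMap A B)).symm⟩
  have h := Ideal.height_eq_height_add_of_liesOver_of_hasGoingDown (maximalIdeal A) (maximalIdeal B)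
  rw [← maximalIdeal_height_eq_ringKrullDim, ← maximalIdeal_height_eq_ringKrullDim,
    ← maximalIdeal_height_eq_ringKrullDim, ← WithBot.coe_add, h, ← map_fibre_eq (A := A) (B := B)]

/-- `dim B/P ≤ dim A/p + dim (B / m_A B)` for a prime `P` over `p`. -/
theorem ringKrullDim_quotient_le (p : Ideal A) [p.IsPrime] (P : Ideal B) [P.IsPrime]
    (hle : p.map (algebraMap A B) ≤ P) :
    ringKrullDim (B ⧸ P) ≤ ringKrullDim (A ⧸ p) + ringKrullDim (EGA4.FibRing A B) := by
  let φ : A ⧸ p →+* B ⧸ P := Ideal.quotientMap P (algebraMap A B) (Ideal.map_le_iff_le_comap.mp hle)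
  letI := φ.toAlgebra
  have : IsLocalRing (B ⧸ P) := .of_surjective' _ Ideal.Quotient.mk_surjective
  have : IsLocalRing (A ⧸ p) := .of_surjective' _ Ideal.Quotient.mk_surjective
  let M := maximalIdeal (B ⧸ P)
  let m := maximalIdeal (A ⧸ p)
  have hloc : IsLocalHom (Ideal.Quotient.mk P) := .of_surjective _ Ideal.Quotient.mk_surjective
  have hMo : M.LiesOver m := by
    refine ⟨(?_ : m = M.comap φ)⟩
    symm
    refine IsLocalRing.eq_maximalIdeal ?_
    have h1 : (M.comap φ).comap (Ideal.Quotient.mk p) = maximalIdeal A := by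
      rw [Ideal.comap_comap, Ideal.quotientMap_comp_mk, ← Ideal.comap_comap, maximalIdeal_comap,
        maximalIdeal_comap]
    have hmax : ((M.comap φ).comap (Ideal.Quotient.mk p)).IsMaximal := h1 ▸ inferInstance
    rw [← Ideal.map_comap_of_surjective _ Ideal.Quotient.mk_surjective (M.comap φ)]
    refine Ideal.IsMaximal.map_of_surjective_of_ker_le Ideal.Quotient.mk_surjective ?_
    rw [Ideal.mk_ker]
    exact fun x hx => by
      show φ (Ideal.Quotient.mk p x) ∈ M
      rw [Ideal.Quotient.eq_zero_iff_mem.mpr hx, map_zero]; exact M.zero_mem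
  have h := Ideal.height_le_height_add_of_liesOver m M
  rw [← maximalIdeal_height_eq_ringKrullDim, ← maximalIdeal_height_eq_ringKrullDim (R := A ⧸ p)]
  refine le_trans (WithBot.coe_le_coe.mpr h) ?_
  rw [WithBot.coe_add]
  refine add_le_add le_rfl ?_
  let Q := (B ⧸ P) ⧸ m.map (algebraMap (A ⧸ p) (B ⧸ P))
  let ψ : EGA4.FibRing A B →+* Q :=
    Ideal.Quotient.lift _ ((Ideal.Quotient.mk _).comp (Ideal.Quotient.mk P)) fun x hx => by
      rw [RingHom.comp_apply, Ideal.Quotient.eq_zero_iff_mem]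
      have hm : (EGA4.mB A B).map (Ideal.Quotient.mk P) ≤ m.map (algebraMap (A ⧸ p) (B ⧸ P)) := by
        rw [EGA4.mB, Ideal.map_map, Ideal.map_le_iff_le_comap]
        intro a ha
        change φ (Ideal.Quotient.mk p a) ∈ m.map φ
        have : IsLocalHom (Ideal.Quotient.mk p) := .of_surjective _ Ideal.Quotient.mk_surjective
        exact Ideal.mem_map_of_mem (I := m) φ
          (show Ideal.Quotient.mk p a ∈ m from map_nonunit (Ideal.Quotient.mk p) a ha)
      exact hm (Ideal.mem_map_of_mem _ hx)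
  have hψ : Function.Surjective ψ :=
    Ideal.Quotient.lift_surjective_of_surjective _ _
      (Ideal.Quotient.mk_surjective.comp Ideal.Quotient.mk_surjective)
  refine le_trans ?_ (ringKrullDim_le_of_surjective ψ hψ)
  have : (M.map (Ideal.Quotient.mk (m.map (algebraMap (A ⧸ p) (B ⧸ P))))).IsPrime := by
    refine Ideal.map_isPrime_of_surjective Ideal.Quotient.mk_surjective ?_
    rw [Ideal.mk_ker, Ideal.map_le_iff_le_comap]
    exact hMo.over.le
  exact Ideal.height_le_ringKrullDim_of_isPrime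

variable (heq : EGA4.IsEquidim B) (hcat : CAlg.IsCatenary B)

include heq hcat

omit [Module.Flat A B] [IsNoetherianRing A] [IsLocalRing A] [IsLocalHom (algebraMap A B)]
  [Algebra A B] in
theorem height_add_dim (P : Ideal B) [P.IsPrime] :
    ringKrullDim (B ⧸ P) + (P.height : WithBot ℕ∞) = ringKrullDim B := by
  have h := Lib.Excellent.CatenaryDim.height_add_coheight_eq hcat heq ⟨P, ‹_›⟩
  rw [Lib.Excellent.CatenaryDim.ringKrullDim_quotient_eq_coheight ⟨P, ‹_›⟩, ← h, ← WithBot.coe_add,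
    add_comm]

/-- Dimensions of `A/p` and `B/P` for `P` minimal over `pB`. -/
theorem dim_formula {p : Ideal A} [p.IsPrime] {P : Ideal B}
    (hP : P ∈ (p.map (algebraMap A B)).minimalPrimes) :
    ringKrullDim (B ⧸ P) = ringKrullDim (A ⧸ p) + ringKrullDim (EGA4.FibRing A B) ∧
      ringKrullDim (A ⧸ p) + (p.height : WithBot ℕ∞) = ringKrullDim A := by
  have := hP.1.1
  have h1 := height_add_dim heq hcat P
  rw [height_eq_of_minimal hP, ringKrullDim_eq_add (A := A) (B := B)] at h1
  have h2 := ringKrullDim_quotient_le p P hP.1.2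
  have : IsLocalRing (A ⧸ p) := .of_surjective' _ Ideal.Quotient.mk_surjective
  have : IsLocalRing (B ⧸ P) := .of_surjective' _ Ideal.Quotient.mk_surjective
  obtain ⟨a, ha⟩ := exists_nat_dim A
  obtain ⟨a', ha'⟩ := exists_nat_dim (A ⧸ p)
  obtain ⟨b', hb'⟩ := exists_nat_dim (B ⧸ P)
  obtain ⟨f, hf⟩ := exists_nat_dim (EGA4.FibRing A B)
  obtain ⟨h, hh⟩ := ENat.ne_top_iff_exists.mp (Ideal.height_ne_top (I := p) Ideal.IsPrime.ne_top')
  have h3 : (p.height : WithBot ℕ∞) + ringKrullDim (A ⧸ p) ≤ ringKrullDim A := by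
    have := Lib.Excellent.CatenaryDim.ringKrullDim_quotient_eq_coheight (A := A) ⟨p, ‹_›⟩
    rw [show ringKrullDim (A ⧸ p) = _ from this, PrimeSpectrum.height_eq_orderHeight ⟨p, ‹_›⟩,
      ← WithBot.coe_add]
    have : Nonempty (PrimeSpectrum A) := ⟨⟨p, ‹_›⟩⟩
    rw [ringKrullDim, Order.krullDim_eq_iSup_height_add_coheight_of_nonempty, WithBot.coe_le_coe]
    exact le_iSup (fun x : PrimeSpectrum A => Order.height x + Order.coheight x) ⟨p, ‹_›⟩
  simp only [ha, ha', hb', hf, ← hh] at h1 h2 h3 ⊢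
  norm_cast at h1 h2 h3 ⊢
  omega

theorem isEquidim : EGA4.IsEquidim A := by
  intro p hp
  have := hp.1.1
  obtain ⟨P, hP, -⟩ : ∃ P ∈ (p.map (algebraMap A B)).minimalPrimes, P ≤ maximalIdeal B :=
    Ideal.exists_minimalPrimes_le ((Ideal.map_mono (le_maximalIdeal hp.1.1.ne_top)).trans
      (map_maximalIdeal_le _))
  have := (dim_formula heq hcat hP).2
  rwa [Ideal.height_eq_zero_iff.mpr hp, WithBot.coe_zero, add_zero] at this

theorem isCatenary : CAlg.IsCatenary A := by
  rw [CatDim.isCatenary_iff]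
  have hex : ∀ q : PrimeSpectrum A, ∃ Q ∈ (q.asIdeal.map (algebraMap A B)).minimalPrimes,
      Q ≤ maximalIdeal B := fun q =>
    Ideal.exists_minimalPrimes_le ((Ideal.map_mono (le_maximalIdeal q.2.ne_top)).trans
      (map_maximalIdeal_le _))
  intro p q hpq
  constructor
  · rw [CatDim.ringKrullDim_quotient_eq_coheight, CatDim.ringKrullDim_quotient_eq_coheight]
    exact WithBot.coe_lt_coe.mpr
      (Order.coheight_strictAnti hpq (CatDim.coheight_ne_top q).lt_top)
  · intro hcov
    obtain ⟨Q, hQ, -⟩ := hex q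
    have hQp := hQ.1.1
    have hQu := under_eq_of_minimal hQ
    obtain ⟨P, hP, hPQ⟩ : ∃ P ∈ (p.asIdeal.map (algebraMap A B)).minimalPrimes, P ≤ Q :=
      Ideal.exists_minimalPrimes_le ((Ideal.map_mono hpq.le).trans hQ.1.2)
    have hPp := hP.1.1
    have hPu := under_eq_of_minimal hP
    obtain ⟨t, htq, htp⟩ := SetLike.exists_of_lt (show p.asIdeal < q.asIdeal from hpq)
    have hcovB : (⟨P, hPp⟩ : PrimeSpectrum B) ⋖ ⟨Q, hQp⟩ := by
      refine Lib.Excellent.CatenaryDim.covBy_of_mem_minimalPrimes (t := algebraMap A B t)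
        (fun h => htp (hPu ▸ h)) ⟨⟨hQp, sup_le hPQ ?_⟩, fun R hR hRQ => hQ.2 ⟨hR.1, ?_⟩ hRQ⟩
      · rw [Ideal.span_singleton_le_iff_mem]
        exact hQ.1.2 (Ideal.mem_map_of_mem _ htq)
      · have := hR.1
        have h1 : p.asIdeal < R.under A := by
          refine lt_of_le_of_ne ?_ fun e => htp (e ▸ ?_)
          · exact hPu ▸ Ideal.comap_mono (le_sup_left.trans hR.2)
          · exact hR.2 (Ideal.mem_sup_right (Ideal.mem_span_singleton_self _))
        have h2 : R.under A ≤ q.asIdeal := hQu ▸ Ideal.comap_mono hRQ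
        have h3 : (⟨R.under A, inferInstance⟩ : PrimeSpectrum A) = q := by
          by_contra hne
          exact hcov.2 h1 (lt_of_le_of_ne h2 hne)
        rw [Ideal.map_le_iff_le_comap, ← h3]
    have hh := Lib.Excellent.CatenaryDim.height_covBy hcat heq hcovB
    rw [height_eq_of_minimal hQ, height_eq_of_minimal hP] at hh
    have e1 := (dim_formula heq hcat hQ).2
    have e2 := (dim_formula heq hcat hP).2
    rw [← e2, hh] at e1
    have : IsLocalRing (A ⧸ p.asIdeal) := .of_surjective' _ Ideal.Quotient.mk_surjective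
    have : IsLocalRing (A ⧸ q.asIdeal) := .of_surjective' _ Ideal.Quotient.mk_surjective
    obtain ⟨a, ha⟩ := exists_nat_dim (A ⧸ p.asIdeal)
    obtain ⟨b, hb⟩ := exists_nat_dim (A ⧸ q.asIdeal)
    obtain ⟨h, hh'⟩ := ENat.ne_top_iff_exists.mp
      (Ideal.height_ne_top (I := p.asIdeal) p.2.ne_top)
    simp only [ha, hb, ← hh'] at e1 ⊢
    norm_cast at e1 ⊢
    omega

theorem equidim_quotient_map_iff (a : Ideal A) :
    EGA4.IsEquidim (B ⧸ a.map (algebraMap A B)) ↔ EGA4.IsEquidim (A ⧸ a) := by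
  rw [isEquidim_quotient_iff, isEquidim_quotient_iff]
  have key : ∀ P ∈ (a.map (algebraMap A B)).minimalPrimes, ∃ p ∈ a.minimalPrimes,
      P ∈ (p.map (algebraMap A B)).minimalPrimes := by
    intro P hP
    have := hP.1.1
    have hau : a ≤ P.under A := Ideal.map_le_iff_le_comap.mp hP.1.2
    obtain ⟨p, hp, hpP⟩ := Ideal.exists_minimalPrimes_le (J := P.under A) hau
    exact ⟨p, hp, ⟨‹_›, Ideal.map_le_iff_le_comap.mpr hpP⟩,
      fun R hR hRP => hP.2 ⟨hR.1, (Ideal.map_mono hp.1.2).trans hR.2⟩ hRP⟩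
  have key' : ∀ p ∈ a.minimalPrimes, ∃ P ∈ (a.map (algebraMap A B)).minimalPrimes,
      P ∈ (p.map (algebraMap A B)).minimalPrimes := by
    intro p hp
    have := hp.1.1
    obtain ⟨P, hP, -⟩ : ∃ P ∈ (p.map (algebraMap A B)).minimalPrimes, P ≤ maximalIdeal B :=
      Ideal.exists_minimalPrimes_le ((Ideal.map_mono (le_maximalIdeal hp.1.1.ne_top)).trans
        (map_maximalIdeal_le _))
    refine ⟨P, ⟨⟨hP.1.1, (Ideal.map_mono hp.1.2).trans hP.1.2⟩, fun R hR hRP => ?_⟩, hP⟩
    have := hR.1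
    refine hP.2 ⟨hR.1, Ideal.map_le_iff_le_comap.mpr ?_⟩ hRP
    exact hp.2 ⟨inferInstance, Ideal.map_le_iff_le_comap.mp hR.2⟩
      (under_eq_of_minimal hP ▸ Ideal.comap_mono hRP)
  constructor
  · intro h p hp q hq
    have := hp.1.1
    have := hq.1.1
    obtain ⟨P, hPa, hP⟩ := key' p hp
    obtain ⟨Q, hQa, hQ⟩ := key' q hq
    have e := h P hPa Q hQa
    rw [(dim_formula heq hcat hP).1, (dim_formula heq hcat hQ).1] at e
    have : IsLocalRing (A ⧸ p) := .of_surjective' _ Ideal.Quotient.mk_surjective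
    have : IsLocalRing (A ⧸ q) := .of_surjective' _ Ideal.Quotient.mk_surjective
    obtain ⟨x, hx⟩ := exists_nat_dim (A ⧸ p)
    obtain ⟨y, hy⟩ := exists_nat_dim (A ⧸ q)
    obtain ⟨f, hf⟩ := exists_nat_dim (EGA4.FibRing A B)
    simp only [hx, hy, hf] at e ⊢
    norm_cast at e ⊢
    omega
  · intro h P hP Q hQ
    obtain ⟨p, hp, hP'⟩ := key P hP
    obtain ⟨q, hq, hQ'⟩ := key Q hQ
    have := hp.1.1
    have := hq.1.1
    rw [(dim_formula heq hcat hP').1, (dim_formula heq hcat hQ').1, h p hp q hq]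

end Flat

end Groth.Agent.H18.FEquidim.Basic
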