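import Groth.Agent.H18.FEquidim.Cpl
import Groth.Agent.H20.CMDim
import Mathlib.RingTheory.Regular.Flat

/-!
# Formal strict equidimensionality from Cohen–Macaulay modules
-/

set_option linter.style.haveILetI false

universe u

open IsLocalRing TensorProduct RingTheory.Sequence LocCoh

namespace Groth.Agent.H18.FEquidim.CM

variable {A : Type u} [CommRing A] [IsLocalRing A] [IsNoetherianRing A]

theorem exists_embedding {M : Type u} [AddCommGroup M] [Module A M] [Module.Finite A M]
    (h : IsCohenMacaulayModule A M) (hsupp : Module.support A M = Set.univ) (p : Ideal A)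
    [p.IsPrime] :
    ∃ (M' : Type u) (_ : AddCommGroup M') (_ : Module A M') (_ : Module.Finite A M')
      (ι : (A ⧸ p) →ₗ[A] M'), Function.Injective ι ∧ IsCohenMacaulayModule A M' ∧
      Module.supportDim A M' = ringKrullDim (A ⧸ p) := by
  have hntM := Lib.Depth.CM.nontrivial_of_isCohenMacaulayModule h
  have hp : (⟨p, ‹_›⟩ : PrimeSpectrum A) ∈ Module.support A M := hsupp ▸ Set.mem_univ _
  have h1 := Lib.Depth.CM.supportDim_localization_le_idealDepth h p hp
  rw [H20.CMDim.supportDim_of_support_eq_univ (H20.CMDim.support_localized_eq_univ hsupp p),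
    IsLocalization.AtPrime.ringKrullDim_eq_height p, WithBot.coe_le_coe] at h1
  obtain ⟨n, hn⟩ := ENat.ne_top_iff_exists.mp (Ideal.height_ne_top (I := p) Ideal.IsPrime.ne_top')
  rw [← hn] at h1
  have hI : p • (⊤ : Submodule A M) ≠ ⊤ := Lib.Depth.Basic.smul_top_ne_top Ideal.IsPrime.ne_top'
  obtain ⟨rs, hlen, hmem, hreg⟩ := (Lib.Depth.Basic.le_idealDepth_iff_of_ne_top hI n).mp h1
  have hmemm : ∀ r ∈ rs, r ∈ maximalIdeal A := fun r hr =>
    le_maximalIdeal Ideal.IsPrime.ne_top' (hmem r hr)
  have hreg' : IsRegular M rs := Lib.Depth.Basic.isRegular_of_mem hI hreg hmem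
  have hCM := H20.CMDim.isCohenMacaulayModule_quotient_ofList h rs hmemm hreg
  set M' := M ⧸ Ideal.ofList rs • (⊤ : Submodule A M) with hM'
  have hdim : Module.supportDim A M' = ringKrullDim (A ⧸ p) := by
    have e1 := Module.supportDim_add_length_eq_supportDim_of_isRegular rs hreg'
    rw [H20.CMDim.supportDim_of_support_eq_univ hsupp,
      ← H20.CMDim.ringKrullDim_quotient_add_height h hsupp p, ← hn, hlen, ← WithBot.coe_natCast] at e1
    have : IsLocalRing (A ⧸ p) := .of_surjective' _ Ideal.Quotient.mk_surjective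
    obtain ⟨a, ha⟩ := Basic.exists_nat_dim (A ⧸ p)
    have := Lib.Depth.CM.nontrivial_of_isCohenMacaulayModule hCM
    obtain ⟨b, hb⟩ := Lib.Depth.CM.supportDim_eq_nat (R := A) M'
    change Module.supportDim A M' + _ = _ at e1
    rw [hb, ha] at e1
    rw [hb, ha]
    norm_cast at e1 ⊢
    omega
  have hpann : Module.annihilator A M' ≤ p := by
    refine Module.annihilator_le_of_mem_support (R := A) (M := M') (p := ⟨p, ‹_›⟩) ?_
    rw [Module.support_quotient, hsupp, Set.univ_inter]
    exact Lib.Depth.Basic.ofList_le hmem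
  have hmin : p ∈ (Module.annihilator A M').minimalPrimes := by
    refine ⟨⟨‹_›, hpann⟩, fun q hq hqp => ?_⟩
    by_contra hne
    have := hq.1
    have h2 := Lib.Depth.Assoc.ringKrullDim_quotient_add_one_le_of_lt (lt_of_le_not_ge hqp hne)
    have h3 : ringKrullDim (A ⧸ q) ≤ Module.supportDim A M' := by
      rw [Module.supportDim_eq_ringKrullDim_quotient_annihilator]
      exact ringKrullDim_le_of_surjective (Ideal.Quotient.factor hq.2)
        (Ideal.Quotient.factor_surjective hq.2)
    have h4 := h2.trans (hdim ▸ h3)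
    have : IsLocalRing (A ⧸ p) := .of_surjective' _ Ideal.Quotient.mk_surjective
    obtain ⟨a, ha⟩ := Basic.exists_nat_dim (A ⧸ p)
    simp only [ha] at h4
    norm_cast at h4
    omega
  obtain ⟨-, ι, hι⟩ := (isAssociatedPrime_iff_exists_injective_linearMap _ _).mp
    (Module.associatedPrimes.minimalPrimes_annihilator_subset_associatedPrimes A M' hmin)
  exact ⟨M', _, _, inferInstance, ι, hι, hCM, hdim⟩

/-- The associated primes of `Â/pÂ` all have coheight `dim A/p`. -/
theorem ringKrullDim_quotient_eq {M : Type u} [AddCommGroup M] [Module A M] [Module.Finite A M]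
    (h : IsCohenMacaulayModule A M) (hsupp : Module.support A M = Set.univ) (p : Ideal A)
    [p.IsPrime] {P : Ideal (EGA4.Cpl A)}
    (hP : P ∈ associatedPrimes (EGA4.Cpl A) (EGA4.Cpl A ⧸ p.map (algebraMap A (EGA4.Cpl A)))) :
    ringKrullDim (EGA4.Cpl A ⧸ P) = ringKrullDim (A ⧸ p) := by
  obtain ⟨M', _, _, _, ι, hι, hCM, hdim⟩ := exists_embedding h hsupp p
  let B := EGA4.Cpl A
  have : Nontrivial M' := Lib.Depth.CM.nontrivial_of_isCohenMacaulayModule hCM
  let f : (B ⧸ p.map (algebraMap A B)) →ₗ[B] B ⊗[A] M' :=
    (ι.baseChange B) ∘ₗ (Algebra.TensorProduct.quotIdealMapEquivTensorQuot B p).toLinearEquiv.toLinearMap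
  have hf : Function.Injective f := by
    simp only [f, LinearMap.coe_comp, LinearEquiv.coe_coe]
    refine Function.Injective.comp ?_ (LinearEquiv.injective _)
    exact Module.Flat.lTensor_preserves_injective_linearMap ι hι
  have hP' : P ∈ associatedPrimes B (B ⊗[A] M') := associatedPrimes.subset_of_injective hf hP
  rw [← hdim]
  refine le_antisymm ?_ ?_
  · refine (Lib.Depth.Assoc.ringKrullDim_quotient_le_supportDim _ hP').trans ?_
    rw [Module.supportDim_eq_ringKrullDim_quotient_annihilator,
      Module.supportDim_eq_ringKrullDim_quotient_annihilator]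
    have hle : (Module.annihilator A M').map (algebraMap A B) ≤
        Module.annihilator B (B ⊗[A] M') := by
      rw [Ideal.map_le_iff_le_comap]
      intro a ha
      rw [Ideal.mem_comap, Module.mem_annihilator]
      intro x
      induction x with
      | zero => simp
      | tmul b m =>
        rw [algebraMap_smul, ← TensorProduct.tmul_smul, Module.mem_annihilator.mp ha m,
          TensorProduct.tmul_zero]
      | add x y hx hy => rw [smul_add, hx, hy, add_zero]
    refine (ringKrullDim_le_of_surjective _ (Ideal.Quotient.factor_surjective hle)).trans ?_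
    have : Nontrivial (A ⧸ Module.annihilator A M') :=
      Ideal.Quotient.nontrivial_iff.mpr fun e => by
        rw [Module.annihilator_eq_top_iff] at e
        exact not_subsingleton M' e
    obtain ⟨e⟩ := Cpl.exists_quotEquiv (Module.annihilator A M')
    have : IsLocalRing (A ⧸ Module.annihilator A M') :=
      .of_surjective' _ Ideal.Quotient.mk_surjective
    rw [ringKrullDim_eq_of_ringEquiv e,
      Lib.Regular.Completion.ringKrullDim_eq _ (maximalIdeal.isMaximal _).ne_top]
  · refine le_trans ?_ (Lib.Depth.Assoc.depth_le_ringKrullDim_quotient _ hP')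
    obtain ⟨d, hd⟩ := Lib.Depth.CM.supportDim_eq_nat (R := A) M'
    have hdep : ((d : ℕ) : ℕ∞) ≤ depth A M' := by
      have := hCM
      rw [IsCohenMacaulayModule, hd] at this
      exact le_of_eq (by exact_mod_cast this)
    obtain ⟨rs, hlen, hmem, hreg⟩ := (Lib.Depth.Basic.le_depth_iff d).mp hdep
    rw [hd]
    refine WithBot.coe_le_coe.mpr ?_
    rw [← hlen, ← List.length_map (f := algebraMap A B)]
    refine Lib.Depth.Basic.length_le_idealDepth
      (hreg.toIsWeaklyRegular.of_flat_of_isBaseChange (TensorProduct.isBaseChange A M' B)) ?_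
    simp only [List.mem_map, forall_exists_index, and_imp, forall_apply_eq_imp_iff₂]
    intro r hr
    rw [AdicCompletion.maximalIdeal_eq_map]
    exact Ideal.mem_map_of_mem _ (hmem r hr)

/-- A local ring with a Cohen–Macaulay module of full support is formally strictly catenary. -/
theorem isFormallyStrictlyCatenary {M : Type u} [AddCommGroup M] [Module A M] [Module.Finite A M]
    (h : IsCohenMacaulayModule A M) (hsupp : Module.support A M = Set.univ) :
    EGA4.IsFormallyStrictlyCatenary A := by
  intro p hp Q hQ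
  obtain ⟨e⟩ := Cpl.exists_quotEquiv p
  let B := EGA4.Cpl A
  let g : B →+* EGA4.Cpl (A ⧸ p) := e.toRingHom.comp (Ideal.Quotient.mk _)
  have hg : Function.Surjective g := e.surjective.comp Ideal.Quotient.mk_surjective
  have : IsNoetherianRing (EGA4.Cpl (A ⧸ p)) := inferInstance
  obtain ⟨hQp, z, hz⟩ := isAssociatedPrime_iff.mp hQ
  have hP : Q.comap g ∈ associatedPrimes B (B ⧸ p.map (algebraMap A B)) := by
    refine isAssociatedPrime_iff.mpr ⟨inferInstance, e.symm z, ?_⟩
    ext b
    rw [Ideal.mem_comap, hz, Submodule.mem_colon_singleton, Submodule.mem_colon_singleton,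
      Submodule.mem_bot, Submodule.mem_bot, smul_eq_mul]
    obtain ⟨w, rfl⟩ := e.surjective z
    rw [RingEquiv.symm_apply_apply, Algebra.smul_def, Ideal.Quotient.algebraMap_eq]
    show e (Ideal.Quotient.mk _ b) * e w = 0 ↔ _
    rw [← map_mul, RingEquiv.map_eq_zero_iff]
  rw [Basic.ringKrullDim_quotient_congr g hg Q, ringKrullDim_quotient_eq h hsupp p hP,
    Lib.Regular.Completion.ringKrullDim_eq _ (maximalIdeal.isMaximal (A ⧸ p)).ne_top]

/-- Formally strictly catenary rings are formally catenary. -/
theorem isFormallyCatenary_of_strictly (h : EGA4.IsFormallyStrictlyCatenary A) :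
    EGA4.IsFormallyCatenary A := by
  intro p hp Q hQ
  refine h p Q ?_
  refine Module.associatedPrimes.minimalPrimes_annihilator_subset_associatedPrimes _ _ ?_
  rwa [Module.annihilator_eq_bot.mpr inferInstance]

end Groth.Agent.H18.FEquidim.CM
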