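import Groth.Agent.H18.FEquidim.Cpl

/-!
# Formal equidimensionality is invariant under ring isomorphisms
-/

set_option linter.style.haveILetI false

universe u

open IsLocalRing TensorProduct

namespace Groth.Agent.H18.FEquidim.Iso

variable {R S : Type u} [CommRing R] [CommRing S] [IsLocalRing R] [IsLocalRing S]
  [IsNoetherianRing R]

theorem exists_cplEquiv (e : R ≃+* S) : Nonempty (EGA4.Cpl R ≃+* EGA4.Cpl S) := by
  letI := e.toRingHom.toAlgebra
  have : Module.Finite R S := Module.Finite.of_surjective (Algebra.linearMap R S) e.surjective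
  have c := Lib.Excellent.CompletionFinite.completionEquiv (maximalIdeal R) S
  rw [show (maximalIdeal R).map (algebraMap R S) = maximalIdeal S from
    IsLocalRing.map_ringEquiv_maximalIdeal e] at c
  let g : R ≃ₐ[R] S := AlgEquiv.ofRingEquiv (f := e) fun _ => rfl
  exact ⟨((Algebra.TensorProduct.lid R (EGA4.Cpl R)).symm.toRingEquiv.trans
    (Algebra.TensorProduct.congr g (AlgEquiv.refl : EGA4.Cpl R ≃ₐ[R] EGA4.Cpl R)).toRingEquiv).trans
      c.toRingEquiv⟩

theorem isFormallyEquidim_of_ringEquiv (e : R ≃+* S) (h : EGA4.IsFormallyEquidim R) :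
    EGA4.IsFormallyEquidim S := by
  obtain ⟨c⟩ := exists_cplEquiv e
  exact Basic.isEquidim_of_ringEquiv c h

end Groth.Agent.H18.FEquidim.Iso
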