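import Groth.Agent.H18.FEquidim.Poly
import Groth.Agent.H18.FEquidim.CM
import Groth.Agent.H18.FEquidim.Iso
import Groth.Agent.H24.CompletionFlat
import Mathlib.RingTheory.AdicCompletion.Algebra
import Mathlib.RingTheory.RingHom.Surjective
import Mathlib.RingTheory.EssentialFiniteness

/-!
# Formal equidimensionality of localizations of finite type algebras (EGA IV 7.1.8, 7.1.11)
-/

set_option linter.style.haveILetI false

universe u

open IsLocalRing MvPolynomial

namespace Groth.Agent.H18.FEquidim.Loc

/-- A quotient of a Cohen–Macaulay local ring is formally catenary. -/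
theorem isFormallyCatenary_of_surjective {A B : Type u} [CommRing A]
    [LocCoh.IsCohenMacaulayLocalRing A] [CommRing B] [IsLocalRing B]
    (f : A →+* B) (hf : Function.Surjective f) : EGA4.IsFormallyCatenary B := by
  intro p hp
  let g : A →+* B ⧸ p := (Ideal.Quotient.mk p).comp f
  have hg : Function.Surjective g := Ideal.Quotient.mk_surjective.comp hf
  have hk : RingHom.ker g = p.comap f := by rw [← RingHom.comap_ker, Ideal.mk_ker]
  have e := (Ideal.quotEquivOfEq hk.symm).trans (RingHom.quotientKerEquivOfSurjective hg)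
  exact Iso.isFormallyEquidim_of_ringEquiv e
    (CM.isFormallyCatenary_of_strictly (CM.isFormallyStrictlyCatenary
      (A := A) Lib.Depth.CM.isCohenMacaulayModule_self
      (by simp [Module.support_eq_zeroLocus, Module.annihilator_eq_bot.mpr])) (p.comap f))

theorem isFormallyEquidim_of_isFormallyCatenary {A : Type u} [CommRing A] [IsLocalRing A]
    [IsNoetherianRing A] (hc : EGA4.IsFormallyCatenary A) (he : EGA4.IsEquidim A) :
    EGA4.IsFormallyEquidim A :=
  Cpl.isFormallyEquidim_iff.mpr ⟨he, fun p _ _ => hc p⟩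

/-- The map of completions induced by a local homomorphism. -/
theorem exists_cplMap (A B : Type u) [CommRing A] [CommRing B] [IsLocalRing A] [IsLocalRing B]
    [Algebra A B] [IsLocalHom (algebraMap A B)] :
    ∃ ψ : EGA4.Cpl A →+* EGA4.Cpl B,
      ψ.comp (algebraMap A (EGA4.Cpl A)) = (algebraMap B (EGA4.Cpl B)).comp (algebraMap A B) := by
  have hle : ∀ n, maximalIdeal A ^ n ≤ (maximalIdeal B ^ n).comap (algebraMap A B) := fun n => by
    rw [← Ideal.map_le_iff_le_comap, Ideal.map_pow]
    exact Ideal.pow_right_mono (map_maximalIdeal_le _) n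
  let f : ∀ n, EGA4.Cpl A →+* B ⧸ maximalIdeal B ^ n := fun n =>
    (Ideal.quotientMap _ (algebraMap A B) (hle n)).comp
      (AdicCompletion.evalₐ (maximalIdeal A) n).toRingHom
  have hf : ∀ {m n : ℕ} (h : m ≤ n),
      (Ideal.Quotient.factorPow (maximalIdeal B) h).comp (f n) = f m := by
    intro m n h
    refine RingHom.ext fun x => ?_
    induction x using AdicCompletion.induction_on with | _ a => ?_
    change Ideal.Quotient.factor (Ideal.pow_le_pow_right h)
      (Ideal.quotientMap _ (algebraMap A B) (hle n)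
        (AdicCompletion.evalₐ _ n (AdicCompletion.mk _ _ a))) =
      Ideal.quotientMap _ (algebraMap A B) (hle m)
        (AdicCompletion.evalₐ _ m (AdicCompletion.mk _ _ a))
    rw [AdicCompletion.evalₐ_mk, AdicCompletion.evalₐ_mk, Ideal.quotientMap_mk, Ideal.quotientMap_mk,
      Ideal.Quotient.factor_mk, Ideal.Quotient.eq, ← map_sub]
    exact hle m (Ideal.Quotient.eq.1 (AdicCompletion.Ideal.mk_eq_mk _ h a))
  refine ⟨AdicCompletion.liftRingHom _ f hf, RingHom.ext fun a => AdicCompletion.ext_evalₐ fun n => ?_⟩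
  rw [RingHom.comp_apply, RingHom.comp_apply, AdicCompletion.evalₐ_liftRingHom]
  show Ideal.quotientMap _ (algebraMap A B) (hle n) (AdicCompletion.evalₐ _ n (algebraMap A _ a)) = _
  rw [show AdicCompletion.evalₐ (maximalIdeal A) n (algebraMap A _ a) = Ideal.Quotient.mk _ a from
      AdicCompletion.evalₐ_of _ _ _,
    show AdicCompletion.evalₐ (maximalIdeal B) n (algebraMap B _ (algebraMap A B a)) =
      Ideal.Quotient.mk _ (algebraMap A B a) from AdicCompletion.evalₐ_of _ _ _]
  exact Ideal.quotientMap_mk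

/-- Formal equidimensionality descends along flat local homomorphisms. -/
theorem isFormallyEquidim_of_flat {A B : Type u} [CommRing A] [CommRing B] [IsLocalRing A]
    [IsLocalRing B] [IsNoetherianRing A] [IsNoetherianRing B] [Algebra A B]
    [IsLocalHom (algebraMap A B)] [Module.Flat A B] (h : EGA4.IsFormallyEquidim B) :
    EGA4.IsFormallyEquidim A := by
  obtain ⟨ψ, hψ⟩ := exists_cplMap A B
  letI := ψ.toAlgebra
  haveI : IsScalarTower A (EGA4.Cpl A) (EGA4.Cpl B) := IsScalarTower.of_algebraMap_eq' (by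
    rw [IsScalarTower.algebraMap_eq A B (EGA4.Cpl B)]
    exact hψ.symm)
  have : Module.Flat (EGA4.Cpl A) (EGA4.Cpl B) := H24.CompletionFlat.flat_completion A B
  have hmap : (maximalIdeal (EGA4.Cpl A)).map ψ ≤ maximalIdeal (EGA4.Cpl B) := by
    rw [AdicCompletion.maximalIdeal_eq_map, AdicCompletion.maximalIdeal_eq_map, Ideal.map_map, hψ,
      ← Ideal.map_map]
    exact Ideal.map_mono (map_maximalIdeal_le _)
  have : IsLocalHom (algebraMap (EGA4.Cpl A) (EGA4.Cpl B)) :=
    ((local_hom_TFAE ψ).out 0 2 (rfl) (rfl)).mpr hmap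
  exact Basic.isEquidim (A := EGA4.Cpl A) (B := EGA4.Cpl B) h Cpl.isCatenary_cpl

/-- Localizations of polynomial rings over a formally equidimensional local ring are formally
equidimensional. -/
theorem isFormallyEquidim_localization {A : Type u} [CommRing A] [IsNoetherianRing A]
    [IsLocalRing A] (hA : EGA4.IsFormallyEquidim A) (n : ℕ)
    (q : Ideal (MvPolynomial (Fin n) A)) [q.IsPrime] :
    EGA4.IsFormallyEquidim (Localization.AtPrime q) := by
  letI : Algebra (MvPolynomial (Fin n) A) (MvPolynomial (Fin n) (EGA4.Cpl A)) :=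
    MvPolynomial.algebraMvPolynomial
  have := Cpl.isLocalHom_cpl (A := A)
  have : Module.FaithfullyFlat A (EGA4.Cpl A) := Module.FaithfullyFlat.of_flat_of_isLocalHom
  have : Module.FaithfullyFlat (MvPolynomial (Fin n) A) (MvPolynomial (Fin n) (EGA4.Cpl A)) :=
    Module.FaithfullyFlat.of_linearEquiv _ _
      (Algebra.IsPushout.equiv A (MvPolynomial (Fin n) A) (EGA4.Cpl A)
        (MvPolynomial (Fin n) (EGA4.Cpl A))).toLinearEquiv.symm
  obtain ⟨⟨Q, hQ⟩, hQc⟩ := PrimeSpectrum.comap_surjective_of_faithfullyFlat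
    (A := MvPolynomial (Fin n) A) (B := MvPolynomial (Fin n) (EGA4.Cpl A)) ⟨q, inferInstance⟩
  have hQq : Q.LiesOver q := ⟨(congrArg PrimeSpectrum.asIdeal hQc).symm⟩
  let Am := Localization.AtPrime q
  let Bm := Localization.AtPrime Q
  letI : Algebra Am Bm :=
    (Localization.localRingHom q Q (algebraMap (MvPolynomial (Fin n) A)
      (MvPolynomial (Fin n) (EGA4.Cpl A))) hQq.over).toAlgebra
  have : IsLocalHom (algebraMap Am Bm) := Localization.isLocalHom_localRingHom q Q _ hQq.over
  have : Module.Flat Am Bm := by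
    have h : (algebraMap (MvPolynomial (Fin n) A) (MvPolynomial (Fin n) (EGA4.Cpl A))).Flat :=
      RingHom.flat_algebraMap_iff.mpr inferInstance
    exact RingHom.Flat.localRingHom h Q q hQq.over
  refine isFormallyEquidim_of_flat (A := Am) (B := Bm)
    (isFormallyEquidim_of_isFormallyCatenary ?_ (Poly.isEquidim_localization hA Cpl.isCatenary_cpl Q))
  have : IsAdicComplete (maximalIdeal (EGA4.Cpl A)) (EGA4.Cpl A) := by
    rw [AdicCompletion.maximalIdeal_eq_map]
    exact AdicCompletion.isAdicComplete_self _ (Ideal.fg_of_isNoetherianRing _)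
  obtain ⟨Λ, _, d, g, -, hreg, hg⟩ :=
    Lib.Cohen.Presentation.exists_surjective_mvPowerSeries (EGA4.Cpl A)
  have : LocCoh.IsCohenMacaulayLocalRing (MvPowerSeries (Fin d) Λ) :=
    Lib.JacCrit.FlatRegular.isCohenMacaulayLocalRing _
  have : LocCoh.IsCohenMacaulayRing (MvPowerSeries (Fin d) Λ) :=
    { isCohenMacaulayLocalRing_localization := fun p _ =>
        Lib.Depth.CM.isCohenMacaulayLocalRing_localization p }
  have := CMPoly.mvPolynomial (MvPowerSeries (Fin d) Λ) n
  let G := MvPolynomial.map (σ := Fin n) g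
  have hG : Function.Surjective G := MvPolynomial.map_surjective _ hg
  have : LocCoh.IsCohenMacaulayLocalRing (Localization.AtPrime (Q.comap G)) :=
    LocCoh.IsCohenMacaulayRing.isCohenMacaulayLocalRing_localization _
  let Φ : Localization.AtPrime (Q.comap G) →+* Bm := Localization.localRingHom (Q.comap G) Q G rfl
  have hΦ : Function.Surjective Φ := RingHom.surjective_localRingHom_of_surjective G hG Q
  exact @isFormallyCatenary_of_surjective (Localization.AtPrime (Q.comap G)) Bm inferInstance inferInstance inferInstance inferInstance Φ hΦ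

theorem exists_lift_surjective {R B : Type u} [CommRing R] [CommRing B] [IsLocalRing B]
    (g : R →+* B) {C : Type u} [CommRing C] (h : C →+* B)
    (hC : ∀ b : B, ∃ x y : C, IsUnit (h y) ∧ b * h y = h x)
    (hgh : ∀ c : C, ∃ r : R, g r = h c) :
    ∃ L : Localization.AtPrime ((maximalIdeal B).comap g) →+* B, Function.Surjective L := by
  have hu : ∀ r : ((maximalIdeal B).comap g).primeCompl, IsUnit (g r) := fun r =>
    (notMem_maximalIdeal).mp r.2
  refine ⟨IsLocalization.lift hu, fun b => ?_⟩
  obtain ⟨x, y, hy, hb⟩ := hC b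
  obtain ⟨r, hr⟩ := hgh x
  obtain ⟨s, hs⟩ := hgh y
  have hsm : s ∈ ((maximalIdeal B).comap g).primeCompl := notMem_maximalIdeal.mpr (hs ▸ hy)
  refine ⟨IsLocalization.mk' _ r ⟨s, hsm⟩, ?_⟩
  rw [IsLocalization.lift_mk'_spec, hr, hs, ← hb, mul_comm]

/-- Equidimensional rings essentially of finite type over a formally catenary ring are formally
equidimensional. -/
theorem isFormallyEquidim_of_essFiniteType' {A : Type u} [CommRing A] [IsNoetherianRing A]
    [IsLocalRing A] (B : Type u) [CommRing B] [IsNoetherianRing B]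
    [IsLocalRing B] [Algebra A B] [Algebra.EssFiniteType A B] (hB : EGA4.IsEquidim B)
    (hA : ∀ (p : Ideal B) [p.IsPrime], p ∈ minimalPrimes B →
      EGA4.IsFormallyEquidim (A ⧸ p.comap (algebraMap A B))) :
    EGA4.IsFormallyEquidim B := by
  refine Cpl.isFormallyEquidim_iff.mpr ⟨hB, fun p _ hp => ?_⟩
  let P := p.comap (algebraMap A B)
  have : IsLocalRing (A ⧸ P) := .of_surjective' _ Ideal.Quotient.mk_surjective
  have : IsLocalRing (B ⧸ p) := .of_surjective' _ Ideal.Quotient.mk_surjective
  have : IsLocalHom (Ideal.Quotient.mk p) := .of_surjective _ Ideal.Quotient.mk_surjective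
  obtain ⟨s, hs⟩ := (inferInstance : Algebra.EssFiniteType A B).cond
  have hsf : (Algebra.adjoin A (s : Set B)).FG := ⟨s, rfl⟩
  obtain ⟨n, f, hf⟩ := Algebra.FiniteType.iff_quotient_mvPolynomial''.mp
    ((Subalgebra.fg_iff_finiteType _).mp hsf)
  let g : MvPolynomial (Fin n) (A ⧸ P) →+* B ⧸ p :=
    eval₂Hom (Ideal.quotientMap p (algebraMap A B) le_rfl)
      fun i => Ideal.Quotient.mk p (f (X i))
  have hg : g.comp (MvPolynomial.map (Ideal.Quotient.mk P)) =
      ((Ideal.Quotient.mk p).comp (algebraMap (Algebra.adjoin A (s : Set B)) B)).comp f.toRingHom := by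
    refine MvPolynomial.ringHom_ext (fun r => ?_) (fun i => ?_)
    · simp [g, ← IsScalarTower.algebraMap_apply]
    · simp [g]
      rfl
  obtain ⟨L, hL⟩ := exists_lift_surjective g
    ((Ideal.Quotient.mk p).comp (algebraMap (Algebra.adjoin A (s : Set B)) B))
    (fun b => by
      obtain ⟨b, rfl⟩ := Ideal.Quotient.mk_surjective b
      obtain ⟨⟨x, y⟩, hxy⟩ := IsLocalization.surj ((IsUnit.submonoid B).comap
        (algebraMap (Algebra.adjoin A (s : Set B)) B)) b
      exact ⟨x, y, IsUnit.map (Ideal.Quotient.mk p) y.2, by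
        rw [RingHom.comp_apply, RingHom.comp_apply, ← map_mul, hxy]⟩)
    (fun c => by
      obtain ⟨z, rfl⟩ := hf c
      exact ⟨_, RingHom.congr_fun hg z⟩)
  have hR := isFormallyEquidim_localization (hA p hp) n ((maximalIdeal (B ⧸ p)).comap g)
  have : (RingHom.ker L).IsPrime := RingHom.ker_isPrime L
  have : Nontrivial (Localization.AtPrime ((maximalIdeal (B ⧸ p)).comap g) ⧸ RingHom.ker L) :=
    Ideal.Quotient.nontrivial_iff.mpr (Ideal.IsPrime.ne_top ‹_›)
  exact Iso.isFormallyEquidim_of_ringEquiv (RingHom.quotientKerEquivOfSurjective hL)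
    ((Cpl.isFormallyEquidim_quotient_iff hR _).mp Cpl.isEquidim_of_isDomain)

theorem isFormallyEquidim_of_essFiniteType {A : Type u} [CommRing A] [IsNoetherianRing A]
    [IsLocalRing A] (hA : EGA4.IsFormallyCatenary A) (B : Type u) [CommRing B] [IsNoetherianRing B]
    [IsLocalRing B] [Algebra A B] [Algebra.EssFiniteType A B] (hB : EGA4.IsEquidim B) :
    EGA4.IsFormallyEquidim B :=
  isFormallyEquidim_of_essFiniteType' (A := A) B hB fun p _ _ => hA _

end Groth.Agent.H18.FEquidim.Loc
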