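import Groth.Agent.H18.FEquidim.Cpl
import Groth.Agent.H18.Catenary
import Mathlib.RingTheory.TensorProduct.MvPolynomial
import Mathlib.RingTheory.Flat.FaithfullyFlat.Algebra
import Mathlib.RingTheory.Polynomial.Basic

/-!
# Formally catenary local rings are universally catenary
-/

set_option linter.style.haveILetI false

universe u

open IsLocalRing MvPolynomial

namespace Groth.Agent.H18.FEquidim.Poly

theorem map_injective' {R S : Type u} [CommRing R] [CommRing S] (f : R →+* S) (hf : Function.Surjective f)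
    (I : Ideal R) (J : Ideal S) (h : J.comap f = I) : Ideal.map f I = J :=
  h ▸ Ideal.map_comap_of_surjective f hf J

theorem ringKrullDim_localization_quotient {R : Type u} [CommRing R] (P Q : Ideal R)
    [Q.IsPrime] (hPQ : P ≤ Q) :
    ringKrullDim (Localization.AtPrime Q ⧸ P.map (algebraMap R (Localization.AtPrime Q))) =
      ((Q.map (Ideal.Quotient.mk P)).height : WithBot ℕ∞) := by
  set Q' := Q.map (Ideal.Quotient.mk P)
  have hQ' : Q'.IsPrime :=
    Ideal.map_isPrime_of_surjective Ideal.Quotient.mk_surjective (by rwa [Ideal.mk_ker])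
  have hsub : Algebra.algebraMapSubmonoid (R ⧸ P) Q.primeCompl = Q'.primeCompl := by
    have hcomap : Q'.comap (Ideal.Quotient.mk P) = Q := by
      rw [Ideal.comap_map_of_surjective' _ Ideal.Quotient.mk_surjective, Ideal.mk_ker,
        sup_eq_left.mpr hPQ]
    ext x
    obtain ⟨y, rfl⟩ := Ideal.Quotient.mk_surjective x
    constructor
    · rintro ⟨z, hz, hzy⟩ hy
      rw [← hzy] at hy
      exact hz (hcomap ▸ hy)
    · intro hy
      exact ⟨y, fun h => hy (Ideal.mem_map_of_mem _ h), rfl⟩
  have : IsLocalization.AtPrime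
      (Localization.AtPrime Q ⧸ P.map (algebraMap R (Localization.AtPrime Q))) Q' := by
    rw [IsLocalization.AtPrime, ← hsub]
    infer_instance
  exact IsLocalization.AtPrime.ringKrullDim_eq_height Q' _

theorem height_map_congr {R S : Type u} [CommRing R] [CommRing S] (g : R →+* S)
    (hg : Function.Surjective g) (Q : Ideal R) {K : Ideal R} (hK : RingHom.ker g = K) :
    (Q.map g).height = (Q.map (Ideal.Quotient.mk K)).height := by
  subst hK
  let e := RingHom.quotientKerEquivOfSurjective hg
  have h : e.toRingHom.comp (Ideal.Quotient.mk (RingHom.ker g)) = g := RingHom.ext fun x => rfl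
  have h' : Q.map g = (Q.map (Ideal.Quotient.mk (RingHom.ker g))).map e.toRingHom := by
    rw [Ideal.map_map, h]
  rw [h']
  exact e.height_map _

theorem height_map_map_congr {R S : Type u} [CommRing R] [CommRing S] (g : R →+* S)
    (hg : Function.Surjective g) (Q : Ideal R) (J : Ideal S) {K : Ideal R} (hK : J.comap g = K) :
    ((Q.map g).map (Ideal.Quotient.mk J)).height = (Q.map (Ideal.Quotient.mk K)).height := by
  rw [Ideal.map_map]
  have h : Function.Surjective ((Ideal.Quotient.mk J).comp g) := by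
    rw [RingHom.coe_comp]; exact Ideal.Quotient.mk_surjective.comp hg
  exact height_map_congr ((Ideal.Quotient.mk J).comp g) h Q
    (by rw [← RingHom.comap_ker, Ideal.mk_ker, hK])

variable {B : Type u} [CommRing B] [IsNoetherianRing B] [IsLocalRing B] {n : ℕ}

/-- Minimal primes of a polynomial ring are extended from minimal primes. -/
theorem minimalPrimes_eq {B : Type u} [CommRing B] {n : ℕ}
    (P₁ : Ideal (MvPolynomial (Fin n) B)) (h : P₁ ∈ minimalPrimes (MvPolynomial (Fin n) B)) :
    P₁ = (P₁.comap (C : B →+* _)).map (C : B →+* _) ∧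
      P₁.comap (C : B →+* _) ∈ minimalPrimes B := by
  have := h.1.1
  have hker : ∀ p : Ideal B, RingHom.ker (MvPolynomial.map (σ := Fin n) (Ideal.Quotient.mk p)) =
      p.map (C : B →+* _) := fun p => by rw [MvPolynomial.ker_map, Ideal.mk_ker]
  have heq : P₁ = (P₁.comap (C : B →+* _)).map (C : B →+* _) :=
    le_antisymm (h.2 ⟨hker _ ▸ RingHom.ker_isPrime _, bot_le⟩ Ideal.map_comap_le)
      Ideal.map_comap_le
  refine ⟨heq, ⟨inferInstance, bot_le⟩, fun p hp hpP => ?_⟩
  have := hp.1
  have h1 : P₁ ≤ p.map (C : B →+* _) :=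
    h.2 ⟨hker p ▸ RingHom.ker_isPrime _, bot_le⟩ ((Ideal.map_mono hpP).trans Ideal.map_comap_le)
  intro x hx
  have h2 := (hker p).ge (h1 hx)
  rwa [RingHom.mem_ker, MvPolynomial.map_C, ← C_0, C_inj, Ideal.Quotient.eq_zero_iff_mem] at h2

/-- The height of a prime of a polynomial ring modulo an extended prime. -/
theorem height_image {B : Type u} [CommRing B] [IsNoetherianRing B] {n : ℕ} (P : Ideal B)
    [P.IsPrime] (Q : Ideal (MvPolynomial (Fin n) B)) [Q.IsPrime]
    (hP : P.map (C : B →+* _) ≤ Q) :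
    (Q.map (Ideal.Quotient.mk (P.map (C : B →+* MvPolynomial (Fin n) B)))).height =
      ((Q.comap (C : B →+* _)).map (Ideal.Quotient.mk P)).height +
        (Q.map (Ideal.Quotient.mk ((Q.comap (C : B →+* _)).map
          (C : B →+* MvPolynomial (Fin n) B)))).height := by
  set q := Q.comap (C : B →+* MvPolynomial (Fin n) B) with hq
  have hPq : P ≤ q := Ideal.map_le_iff_le_comap.mp hP
  set π : MvPolynomial (Fin n) B →+* MvPolynomial (Fin n) (B ⧸ P) :=
    MvPolynomial.map (Ideal.Quotient.mk P) with hπdef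
  have hπ : Function.Surjective π := MvPolynomial.map_surjective _ Ideal.Quotient.mk_surjective
  have hker : RingHom.ker π = P.map (C : B →+* _) := by
    rw [hπdef, MvPolynomial.ker_map, Ideal.mk_ker]
  rw [← height_map_congr π hπ Q hker]
  have hkQ : RingHom.ker π ≤ Q := hker.le.trans hP
  have hQb : (Q.map π).IsPrime := Ideal.map_isPrime_of_surjective hπ hkQ
  have hQbc : (Q.map π).comap π = Q := by
    rw [Ideal.comap_map_of_surjective' _ hπ, sup_eq_left.mpr hkQ]
  have hqb : (q.map (Ideal.Quotient.mk P)).IsPrime :=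
    Ideal.map_isPrime_of_surjective Ideal.Quotient.mk_surjective (by rwa [Ideal.mk_ker])
  have hover : (Q.map π).LiesOver (q.map (Ideal.Quotient.mk P)) := by
    refine ⟨?_⟩
    ext x
    obtain ⟨y, rfl⟩ := Ideal.Quotient.mk_surjective x
    rw [← Ideal.mem_comap, Ideal.comap_map_of_surjective' _ Ideal.Quotient.mk_surjective,
      Ideal.mk_ker, sup_eq_left.mpr hPq, hq, Ideal.mem_comap, Ideal.under_def, Ideal.mem_comap,
      MvPolynomial.algebraMap_eq, ← MvPolynomial.map_C, ← hπdef]
    exact (SetLike.ext_iff.mp hQbc (C y)).symm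
  rw [Ideal.height_eq_height_add_of_liesOver_of_hasGoingDown (q.map (Ideal.Quotient.mk P))
    (Q.map π)]
  congr 1
  refine height_map_map_congr π hπ Q _ ?_
  have hcomm : π.comp (C : B →+* _) =
      (C : (B ⧸ P) →+* MvPolynomial (Fin n) (B ⧸ P)).comp (Ideal.Quotient.mk P) :=
    RingHom.ext fun b => MvPolynomial.map_C _ b
  rw [MvPolynomial.algebraMap_eq, Ideal.map_map, ← hcomm,
    ← Ideal.map_map, Ideal.comap_map_of_surjective' _ hπ, hker]
  exact sup_eq_left.mpr (Ideal.map_mono hPq)

/-- Localizations of polynomial rings over an equidimensional catenary local ring are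
equidimensional. -/
theorem isEquidim_localization (heq : EGA4.IsEquidim B) (hcat : CAlg.IsCatenary B)
    (Q : Ideal (MvPolynomial (Fin n) B)) [Q.IsPrime] :
    EGA4.IsEquidim (Localization.AtPrime Q) := by
  set q := Q.comap (C : B →+* MvPolynomial (Fin n) B) with hqdef
  set c : ℕ∞ := (Q.map (Ideal.Quotient.mk (q.map (C : B →+* MvPolynomial (Fin n) B)))).height
  rw [Basic.isEquidim_iff]
  suffices key : ∀ P' ∈ minimalPrimes (Localization.AtPrime Q),
      ∃ d : ℕ∞, ringKrullDim (Localization.AtPrime Q ⧸ P') = ((d + c : ℕ∞) : WithBot ℕ∞) ∧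
        (d : WithBot ℕ∞) + ringKrullDim (B ⧸ q) = ringKrullDim B by
    intro p hp p' hp'
    obtain ⟨d, h1, h2⟩ := key p hp
    obtain ⟨d', h1', h2'⟩ := key p' hp'
    have : IsLocalRing (B ⧸ q) := .of_surjective' _ Ideal.Quotient.mk_surjective
    obtain ⟨a, ha⟩ := Basic.exists_nat_dim (B ⧸ q)
    rw [ha, ← WithBot.coe_add] at h2 h2'
    rw [← h2', WithBot.coe_inj] at h2
    rw [h1, h1', (ENat.addLECancellable_of_ne_top (ENat.natCast_ne_top a)).inj_left.mp h2]
  intro P' hP'
  have hP'p := hP'.1.1
  set P₁ := P'.comap (algebraMap (MvPolynomial (Fin n) B) (Localization.AtPrime Q)) with hP₁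
  have hP₁Q : P₁ ≤ Q := by
    have h := Ideal.comap_mono (f := algebraMap (MvPolynomial (Fin n) B) (Localization.AtPrime Q))
      (le_maximalIdeal hP'.1.1.ne_top)
    rwa [← Ideal.under_def, ← Ideal.under_def,
      IsLocalization.AtPrime.under_maximalIdeal (Localization.AtPrime Q) Q] at h
  have hmap : P₁.map (algebraMap _ (Localization.AtPrime Q)) = P' :=
    IsLocalization.map_under Q.primeCompl _ P'
  have hP₁min : P₁ ∈ minimalPrimes (MvPolynomial (Fin n) B) := by
    refine ⟨⟨inferInstance, bot_le⟩, fun p hp hpP => ?_⟩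
    have := hp.1
    have hd : Disjoint (Q.primeCompl : Set (MvPolynomial (Fin n) B)) (p : Set _) :=
      Set.disjoint_left.mpr fun x hx hx' => hx (hP₁Q (hpP hx'))
    have hpp := IsLocalization.isPrime_of_isPrime_disjoint Q.primeCompl (Localization.AtPrime Q) p
      inferInstance hd
    have h1 : P' ≤ p.map (algebraMap _ (Localization.AtPrime Q)) :=
      hP'.2 ⟨hpp, bot_le⟩ (hmap ▸ Ideal.map_mono hpP)
    exact (Ideal.comap_mono h1).trans
      (IsLocalization.under_map_of_isPrime_disjoint Q.primeCompl _ ‹_› hd).le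
  obtain ⟨hP₁eq, hPmin⟩ := minimalPrimes_eq P₁ hP₁min
  set P := P₁.comap (C : B →+* MvPolynomial (Fin n) B)
  have hPp : P.IsPrime := hPmin.1.1
  have hPq : P ≤ q := Ideal.comap_mono hP₁Q
  refine ⟨(q.map (Ideal.Quotient.mk P)).height, ?_, ?_⟩
  · rw [← hmap, ringKrullDim_localization_quotient P₁ Q hP₁Q]
    congr 1
    rw [← height_image P Q (hP₁eq ▸ hP₁Q)]
    rw [← hP₁eq]
  · have : IsLocalRing (B ⧸ P) := .of_surjective' _ Ideal.Quotient.mk_surjective
    have hcatP : CAlg.IsCatenary (B ⧸ P) :=
      Catenary.isCatenary_of_emb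
        (Catenary.isConvexEmb_of_surjective _ Ideal.Quotient.mk_surjective) hcat
    have hqb : (q.map (Ideal.Quotient.mk P)).IsPrime :=
      Ideal.map_isPrime_of_surjective Ideal.Quotient.mk_surjective (by rwa [Ideal.mk_ker])
    have h := Basic.height_add_dim (Cpl.isEquidim_of_isDomain) hcatP (q.map (Ideal.Quotient.mk P))
    rw [Basic.ringKrullDim_quotient_congr (Ideal.Quotient.mk P) Ideal.Quotient.mk_surjective
      (q.map (Ideal.Quotient.mk P)),
      Ideal.comap_map_of_surjective' _ Ideal.Quotient.mk_surjective, Ideal.mk_ker,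
      sup_eq_left.mpr hPq, heq P hPmin] at h
    rw [← h, add_comm]

/-- Polynomial rings over a formally equidimensional local domain are catenary. -/
theorem isCatenary_mvPolynomial {A : Type u} [CommRing A] [IsNoetherianRing A] [IsLocalRing A]
    (hA : EGA4.IsFormallyEquidim A) (n : ℕ) : CAlg.IsCatenary (MvPolynomial (Fin n) A) := by
  refine Catenary.isCatenary_of_localization_maximal _ fun m _ => ?_
  letI : Algebra (MvPolynomial (Fin n) A) (MvPolynomial (Fin n) (EGA4.Cpl A)) :=
    MvPolynomial.algebraMvPolynomial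
  have := Cpl.isLocalHom_cpl (A := A)
  have : Module.FaithfullyFlat A (EGA4.Cpl A) := Module.FaithfullyFlat.of_flat_of_isLocalHom
  have : Algebra.IsPushout A (MvPolynomial (Fin n) A) (EGA4.Cpl A) (MvPolynomial (Fin n) (EGA4.Cpl A)) :=
    inferInstance
  have : Module.FaithfullyFlat (MvPolynomial (Fin n) A) (MvPolynomial (Fin n) (EGA4.Cpl A)) :=
    Module.FaithfullyFlat.of_linearEquiv _ _
      (Algebra.IsPushout.equiv A (MvPolynomial (Fin n) A) (EGA4.Cpl A)
        (MvPolynomial (Fin n) (EGA4.Cpl A))).toLinearEquiv.symm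
  obtain ⟨⟨Q, hQ⟩, hQc⟩ := PrimeSpectrum.comap_surjective_of_faithfullyFlat
    (A := MvPolynomial (Fin n) A) (B := MvPolynomial (Fin n) (EGA4.Cpl A)) ⟨m, inferInstance⟩
  have hQm : Q.LiesOver m := ⟨(congrArg PrimeSpectrum.asIdeal hQc).symm⟩
  let Bm := Localization.AtPrime Q
  let Am := Localization.AtPrime m
  letI : Algebra Am Bm :=
    (Localization.localRingHom m Q (algebraMap (MvPolynomial (Fin n) A)
      (MvPolynomial (Fin n) (EGA4.Cpl A))) hQm.over).toAlgebra
  have : IsLocalHom (algebraMap Am Bm) := Localization.isLocalHom_localRingHom m Q _ hQm.over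
  have : Module.Flat Am Bm := by
    have h : (algebraMap (MvPolynomial (Fin n) A) (MvPolynomial (Fin n) (EGA4.Cpl A))).Flat :=
      RingHom.flat_algebraMap_iff.mpr inferInstance
    exact RingHom.Flat.localRingHom h Q m hQm.over
  refine Basic.isCatenary (A := Am) (B := Bm)
    (isEquidim_localization hA Cpl.isCatenary_cpl Q) ?_
  exact Catenary.isCatenary_of_emb (Catenary.isConvexEmb_of_isLocalization Q.primeCompl)
    ((Cpl.isUniversallyCatenary_cpl (A := A)).2 _ inferInstance)

theorem isUniversallyCatenary {A : Type u} [CommRing A] [IsNoetherianRing A] [IsLocalRing A]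
    (hA : EGA4.IsFormallyCatenary A) : CAlg.IsUniversallyCatenary A := by
  refine ⟨inferInstance, fun S _ _ hS => ?_⟩
  obtain ⟨n, f, hf⟩ := Algebra.FiniteType.iff_quotient_mvPolynomial''.mp hS
  refine Catenary.isCatenary_of_cover S fun p q hpq => ?_
  let P := p.asIdeal.comap (algebraMap A S)
  let g : MvPolynomial (Fin n) (A ⧸ P) →+* S ⧸ p.asIdeal :=
    eval₂Hom (Ideal.quotientMap p.asIdeal (algebraMap A S) le_rfl)
      fun i => Ideal.Quotient.mk _ (f (X i))
  have hg : Function.Surjective g := by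
    have h : g.comp (MvPolynomial.map (Ideal.Quotient.mk P)) =
        (Ideal.Quotient.mk p.asIdeal).comp f.toRingHom := by
      refine MvPolynomial.ringHom_ext (fun r => ?_) (fun i => ?_)
      · simp [g]
      · simp [g]
    intro y
    obtain ⟨x, rfl⟩ := Ideal.Quotient.mk_surjective y
    obtain ⟨z, rfl⟩ := hf x
    exact ⟨_, RingHom.congr_fun h z⟩
  have hemb := Catenary.isConvexEmb_of_surjective (Ideal.Quotient.mk p.asIdeal) Ideal.Quotient.mk_surjective
  refine ⟨S ⧸ p.asIdeal, inferInstance, _, hemb, ?_, ?_, ?_⟩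
  · have : IsLocalRing (A ⧸ P) := .of_surjective' _ Ideal.Quotient.mk_surjective
    exact Catenary.isCatenary_of_emb (Catenary.isConvexEmb_of_surjective g hg)
      (isCatenary_mvPolynomial (hA P) n)
  · change _ ∈ Set.range _
    rw [range_comap_of_surjective _ _ Ideal.Quotient.mk_surjective, Ideal.mk_ker]
    exact le_refl p.asIdeal
  · change _ ∈ Set.range _
    rw [range_comap_of_surjective _ _ Ideal.Quotient.mk_surjective, Ideal.mk_ker]
    exact hpq

end Groth.Agent.H18.FEquidim.Poly
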