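import Groth.Agent.H18.FEquidim.Poly
import Groth.Agent.H18.FEquidim.Loc
import Groth.Agent.Lib.FSAdic.Completion
import Groth.Agent.Lib.CartierDescent.Algebra
import Groth.Agent.S4689
import Mathlib.RingTheory.Adjoin.FG
import Mathlib.RingTheory.IntegralClosure.IsIntegralClosure.Basic
import Mathlib.RingTheory.Ideal.GoingUp
import Mathlib.RingTheory.Localization.FractionRing

/-!
# Ratliff's theorem: universally catenary local rings are formally catenary
-/

set_option linter.style.haveILetI false

universe u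

open IsLocalRing

namespace Groth.Agent.H18.FEquidim.Ratliff

variable {A : Type u} [CommRing A] [IsLocalRing A] [IsNoetherianRing A]

theorem exists_annihilated {B : Type u} [CommRing B] [IsNoetherianRing B] {P : Ideal B}
    (hP : P ∈ minimalPrimes B) :
    ∃ (K : Ideal B) (s : B), s ∉ P ∧ (∀ y ∈ K, s * y = 0) ∧ P ≤ K.radical ∧ K ≤ P := by
  have := hP.1.1
  let K := RingHom.ker (algebraMap B (Localization.AtPrime P))
  have hK : ∀ y : B, y ∈ K ↔ ∃ t ∈ P.primeCompl, t * y = 0 := fun y => by
    rw [RingHom.mem_ker, IsLocalization.map_eq_zero_iff P.primeCompl]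
    exact ⟨fun ⟨t, ht⟩ => ⟨t, t.2, ht⟩, fun ⟨t, h, ht⟩ => ⟨⟨t, h⟩, ht⟩⟩
  obtain ⟨G, hG⟩ := IsNoetherian.noetherian K
  have hGK : ∀ g ∈ G, g ∈ K := fun g hg => hG ▸ Ideal.subset_span hg
  choose! t ht ht0 using fun g hg => (hK g).mp (hGK g hg)
  refine ⟨K, ∏ g ∈ G, t g, Submonoid.prod_mem _ fun g hg => ht g hg, fun y hy => ?_, ?_, ?_⟩
  · rw [← hG] at hy
    induction hy using Submodule.span_induction with
    | mem x hx =>
      obtain ⟨c, hc⟩ := Finset.dvd_prod_of_mem t (Finset.mem_coe.mp hx)
      rw [hc, mul_comm (t x) c, mul_assoc, ht0 x hx, mul_zero]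
    | zero => rw [mul_zero]
    | add a b _ _ ha hb => rw [mul_add, ha, hb, add_zero]
    | smul a b _ hb => rw [smul_eq_mul, mul_left_comm, hb, mul_zero]
  · intro x hx
    have : IsNilpotent (algebraMap B (Localization.AtPrime P) x) := by
      rw [nilpotent_iff_mem_prime]
      intro R hR
      have hle : R.comap (algebraMap B (Localization.AtPrime P)) ≤ P := by
        have h := Ideal.comap_mono (f := algebraMap B (Localization.AtPrime P))
          (le_maximalIdeal hR.ne_top)
        rwa [← Ideal.under_def, ← Ideal.under_def,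
          IsLocalization.AtPrime.under_maximalIdeal (Localization.AtPrime P) P] at h
      exact hP.2 ⟨inferInstance, bot_le⟩ hle hx
    obtain ⟨k, hk⟩ := this
    exact ⟨k, by rw [RingHom.mem_ker, map_pow, hk]⟩
  · intro y hy
    obtain ⟨t, ht, hty⟩ := (hK y).mp hy
    exact ((inferInstance : P.IsPrime).mem_or_mem (hty ▸ P.zero_mem)).resolve_left ht

/-- In a local ring, an element outside a prime of coheight one generates an ideal of definition
modulo it. -/
theorem maximalIdeal_le_radical {B : Type u} [CommRing B] [IsLocalRing B] [IsNoetherianRing B]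
    {P : Ideal B} [P.IsPrime] (h1 : ringKrullDim (B ⧸ P) = 1) {K : Ideal B} (hPK : P ≤ K.radical)
    {z : B} (hz : z ∉ P) : maximalIdeal B ≤ (K ⊔ Ideal.span {z}).radical := by
  rw [Ideal.radical_eq_sInf]
  refine le_sInf fun R ⟨hR, hRp⟩ => ?_
  have : R.IsPrime := hRp
  by_contra hne
  have hPR : P < R := lt_of_le_of_ne
    (hPK.trans ((inferInstance : R.IsPrime).radical_le_iff.mpr (le_sup_left.trans hR)))
    fun e => hz (e ▸ hR (Ideal.mem_sup_right (Ideal.mem_span_singleton_self z)))
  have hRm : R < maximalIdeal B := lt_of_le_not_ge (le_maximalIdeal hRp.ne_top) hne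
  have e1 := Lib.Depth.Assoc.ringKrullDim_quotient_add_one_le_of_lt hPR
  have e2 := Lib.Depth.Assoc.ringKrullDim_quotient_add_one_le_of_lt hRm
  have : IsLocalRing (B ⧸ R) := .of_surjective' _ Ideal.Quotient.mk_surjective
  have : IsLocalRing (B ⧸ maximalIdeal B) := .of_surjective' _ Ideal.Quotient.mk_surjective
  obtain ⟨a, ha⟩ := Basic.exists_nat_dim (B ⧸ R)
  obtain ⟨b, hb⟩ := Basic.exists_nat_dim (B ⧸ maximalIdeal B)
  rw [h1, ha] at e1
  rw [ha, hb] at e2
  norm_cast at e1 e2
  omega

/-- Separation modulo a prime `r` inside a prime `n`. -/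
theorem mem_of_forall_unit_mul {R : Type u} [CommRing R] [IsNoetherianRing R] {r n : Ideal R}
    [r.IsPrime] [n.IsPrime] (hrn : r ≤ n) (m : Ideal R) (hm : m ≤ n) (x : R)
    (h : ∀ k : ℕ, ∃ e ∉ n, x * e ∈ r ⊔ m ^ k) : x ∈ r := by
  let π := algebraMap R (Localization.AtPrime n)
  have hrd : Disjoint (n.primeCompl : Set R) (r : Set R) :=
    Set.disjoint_left.mpr fun y hy hy' => hy (hrn hy')
  have : (r.map π).IsPrime :=
    IsLocalization.isPrime_of_isPrime_disjoint n.primeCompl (Localization.AtPrime n) r inferInstance hrd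
  have : IsLocalRing (Localization.AtPrime n ⧸ r.map π) :=
    .of_surjective' _ Ideal.Quotient.mk_surjective
  have : IsLocalHom (Ideal.Quotient.mk (r.map π)) := .of_surjective _ Ideal.Quotient.mk_surjective
  set Φ : R →+* Localization.AtPrime n ⧸ r.map π := (Ideal.Quotient.mk (r.map π)).comp π
  have hz : ∀ k : ℕ, Φ x ∈ maximalIdeal (Localization.AtPrime n ⧸ r.map π) ^ k := by
    intro k
    obtain ⟨e, he, hmem⟩ := h k
    have hu : IsUnit (Φ e) :=
      (IsLocalization.map_units (Localization.AtPrime n) (⟨e, he⟩ : n.primeCompl)).map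
        (Ideal.Quotient.mk (r.map π))
    have h' := Ideal.mem_map_of_mem Φ hmem
    rw [map_mul, Ideal.mul_unit_mem_iff_mem _ hu] at h'
    refine (?_ : _ ≤ maximalIdeal (Localization.AtPrime n ⧸ r.map π) ^ k) h'
    rw [Ideal.map_sup]
    refine sup_le ?_ ?_
    · rw [Ideal.map_le_iff_le_comap]
      intro y hy
      rw [Ideal.mem_comap, show Φ y = 0 from
        Ideal.Quotient.eq_zero_iff_mem.mpr (Ideal.mem_map_of_mem _ hy)]
      exact zero_mem _
    · rw [Ideal.map_pow]
      refine Ideal.pow_right_mono ?_ k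
      rw [Ideal.map_le_iff_le_comap]
      intro t ht
      show Ideal.Quotient.mk (r.map π) (π t) ∈ maximalIdeal (Localization.AtPrime n ⧸ r.map π)
      rw [← Ideal.mem_comap, maximalIdeal_comap]
      exact (IsLocalization.AtPrime.to_map_mem_maximal_iff (Localization.AtPrime n) n _).mpr (hm ht)
  have h0 : Φ x ∈ (⨅ k : ℕ, maximalIdeal (Localization.AtPrime n ⧸ r.map π) ^ k) := by
    rw [Ideal.mem_iInf]; exact hz
  rw [Ideal.iInf_pow_eq_bot_of_isLocalRing _ (maximalIdeal.isMaximal _).ne_top, Ideal.mem_bot] at h0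
  have h0' : π x ∈ r.map π := Ideal.Quotient.eq_zero_iff_mem.mp h0
  have h1 : x ∈ (r.map π).under R := h0'
  rwa [IsLocalization.under_map_of_isPrime_disjoint n.primeCompl (Localization.AtPrime n) ‹_› hrd] at h1

variable [IsDomain A]

/-- A birational finite extension with a maximal ideal of height one. -/
theorem dim_le_one (hA : CAlg.IsUniversallyCatenary A) {P : Ideal (EGA4.Cpl A)}
    (hP : P ∈ minimalPrimes (EGA4.Cpl A)) (h1 : ringKrullDim (EGA4.Cpl A ⧸ P) = 1) :
    ringKrullDim A ≤ 1 := by
  by_contra hd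
  let B := EGA4.Cpl A
  have hPp : P.IsPrime := hP.1.1
  set f := algebraMap A B
  have hfle : maximalIdeal B = (maximalIdeal A).map f := AdicCompletion.maximalIdeal_eq_map
  have := Cpl.isLocalHom_cpl (A := A)
  have : Module.FaithfullyFlat A B := Module.FaithfullyFlat.of_flat_of_isLocalHom
  have hinjP : ∀ a : A, f a ∈ P → a = 0 := by
    intro a ha
    obtain ⟨R, hRP, hR, hRo⟩ :=
      P.exists_ideal_le_liesOver_of_le (p := (⊥ : Ideal A)) (q := P.under A) bot_le
    have h2 : P ≤ R := hP.2 ⟨hR, bot_le⟩ hRP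
    have : a ∈ R.under A := h2 ha
    rwa [← hRo.over, Ideal.mem_bot] at this
  -- a non-zero element of the maximal ideal
  obtain ⟨b, hbm, hb0⟩ : ∃ b ∈ maximalIdeal A, b ≠ 0 := by
    refine Submodule.exists_mem_ne_zero_of_ne_bot fun h => hd ?_
    rw [← maximalIdeal_height_eq_ringKrullDim, h, Ideal.height_bot]
    exact zero_le_one
  have hbP : f b ∉ P := fun h => hb0 (hinjP b h)
  obtain ⟨K, s, hsP, hKs, hPK, hKP⟩ := exists_annihilated hP
  obtain ⟨N, hN⟩ := Ideal.exists_pow_le_of_le_radical_of_fg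
    (maximalIdeal_le_radical h1 hPK hsP) (IsNoetherian.noetherian _)
  have hbN : f (b ^ N) ∈ K ⊔ Ideal.span {s} := by
    refine hN ?_
    rw [map_pow, hfle]
    exact Ideal.pow_mem_pow (Ideal.mem_map_of_mem f hbm) N
  obtain ⟨uu, huK, v, hvs, huv⟩ := Submodule.mem_sup.mp hbN
  obtain ⟨σ, rfl⟩ := Ideal.mem_span_singleton'.mp hvs
  -- the element `a / b ^ N`
  obtain ⟨G, hG⟩ := IsNoetherian.noetherian (maximalIdeal A ^ N)
  have hmem : uu ∈ (G.inf fun g => (Ideal.span {b ^ N}).colon {g}).map f := by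
    refine Lib.CartierDescent.mem_map_finset_inf G _ fun g hg => ?_
    refine Lib.CartierDescent.mem_map_colon ?_
    have hgm : f g ∈ K ⊔ Ideal.span {s} := hN (by
      rw [hfle, ← Ideal.map_pow]
      exact Ideal.mem_map_of_mem f (hG ▸ Ideal.subset_span hg))
    obtain ⟨k, hk, w, hw, hkw⟩ := Submodule.mem_sup.mp hgm
    obtain ⟨τ, rfl⟩ := Ideal.mem_span_singleton'.mp hw
    rw [Ideal.mem_span_singleton', ← hkw]
    refine ⟨k, ?_⟩
    rw [← huv]
    linear_combination σ * hKs k hk - τ * hKs uu huK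
  have hcol : ∀ i ∈ G.inf (fun g => (Ideal.span {b ^ N}).colon {g}), ∀ g ∈ maximalIdeal A ^ N,
      i * g ∈ Ideal.span {b ^ N} := by
    intro i hi g hg
    rw [← hG] at hg
    induction hg using Submodule.span_induction with
    | mem x hx =>
      have := (Finset.inf_le (f := fun g => (Ideal.span {b ^ N}).colon {g})
        (Finset.mem_coe.mp hx)) hi
      simpa [Submodule.mem_colon_singleton] using this
    | zero => simp
    | add x y _ _ hx hy => rw [mul_add]; exact add_mem hx hy
    | smul c x _ hx => rw [smul_eq_mul, mul_left_comm]; exact Ideal.mul_mem_left _ _ hx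
  obtain ⟨a, ha⟩ : ∃ a : A, uu - f a ∈ Ideal.span {f (b ^ N)} := by
    clear huv hKs huK hKP
    induction hmem using Submodule.span_induction with
    | mem x hx =>
      obtain ⟨i, -, rfl⟩ := hx
      exact ⟨i, by simp⟩
    | zero => exact ⟨0, by simp⟩
    | add x y _ _ hx hy =>
      obtain ⟨a₁, h₁⟩ := hx
      obtain ⟨a₂, h₂⟩ := hy
      exact ⟨a₁ + a₂, by rw [map_add, add_sub_add_comm]; exact add_mem h₁ h₂⟩
    | smul c x hx' hx =>
      obtain ⟨a₁, h₁⟩ := hx
      obtain ⟨c₀, hc₀⟩ := Lib.FSAdic.Completion.exists_sub_mem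
        (Ideal.fg_of_isNoetherianRing (maximalIdeal A)) N c
      refine ⟨c₀ * a₁, ?_⟩
      have h3 : (c - f c₀) * x ∈ Ideal.span {f (b ^ N)} := by
        refine (?_ : (maximalIdeal A ^ N).map f *
          (G.inf fun g => (Ideal.span {b ^ N}).colon {g}).map f ≤ Ideal.span {f (b ^ N)})
          (Ideal.mul_mem_mul (by rw [Ideal.map_pow]; exact hc₀) hx')
        rw [← Ideal.map_mul, mul_comm]
        refine le_trans (Ideal.map_mono (Ideal.mul_le.mpr hcol)) (le_of_eq ?_)
        rw [Ideal.map_span, Set.image_singleton]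
      rw [smul_eq_mul, map_mul, show c * x - f c₀ * f a₁ = (c - f c₀) * x + f c₀ * (x - f a₁) by ring]
      exact add_mem h3 (Ideal.mul_mem_left _ _ h₁)
  obtain ⟨c, hc⟩ := Ideal.mem_span_singleton'.mp ha
  -- `f a = uu - c * b ^ N`
  have hfa : f a = uu - c * f (b ^ N) := by rw [hc]; ring
  have huu : uu * uu = f (b ^ N) * uu := by
    rw [← huv]
    linear_combination -σ * hKs uu huK
  obtain ⟨α, β, hab⟩ : ∃ α β : A, a * a = α * (a * b ^ N) + β * (b ^ N * b ^ N) := by
    have h : f (a * a) ∈ (Ideal.span {a * b ^ N, b ^ N * b ^ N}).map f := by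
      rw [Ideal.map_span, Set.image_pair, Ideal.mem_span_pair]
      refine ⟨1 - 2 * c, c - c * c, ?_⟩
      simp only [map_mul, hfa]
      linear_combination -huu
    have h' : a * a ∈ ((Ideal.span {a * b ^ N, b ^ N * b ^ N}).map f).comap f := h
    rw [Ideal.comap_map_eq_self_of_faithfullyFlat, Ideal.mem_span_pair] at h'
    obtain ⟨α, β, h'⟩ := h'
    exact ⟨α, β, h'.symm⟩
  let F := FractionRing A
  let bN : F := algebraMap A F (b ^ N)
  have hbN0 : bN ≠ 0 := by
    simp [bN, hb0]
  let x : F := algebraMap A F a / bN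
  have hx2 : x * x = algebraMap A F α * x + algebraMap A F β := by
    have h := congrArg (algebraMap A F) hab
    simp only [map_mul, map_add] at h
    change algebraMap A F a / bN * (algebraMap A F a / bN) = _
    change _ = algebraMap A F α * (algebraMap A F a * bN) + algebraMap A F β * (bN * bN) at h
    have e := div_mul_cancel₀ (algebraMap A F a) hbN0
    refine mul_right_cancel₀ (b := bN * bN) (mul_ne_zero hbN0 hbN0) ?_
    linear_combination (algebraMap A F a / bN * bN + algebraMap A F a - algebraMap A F α * bN) * e + h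
  let A' := Algebra.adjoin A {x}
  have : Module.Finite A A' := by
    refine Module.Finite.iff_fg.mpr (IsIntegral.fg_adjoin_singleton ?_)
    refine ⟨Polynomial.X ^ 2 - (Polynomial.C α * Polynomial.X + Polynomial.C β),
      Polynomial.monic_X_pow_sub (by
        refine lt_of_le_of_lt (Polynomial.degree_linear_le) ?_
        decide), ?_⟩
    simp [pow_two, hx2]
  have : IsNoetherianRing A' := IsNoetherianRing.of_finite A A'
  have : FaithfulSMul A A' := (faithfulSMul_iff_algebraMap_injective _ _).mpr fun p q h => by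
    exact IsFractionRing.injective A F (congrArg Subtype.val h)
  let x' : A' := ⟨x, Algebra.self_mem_adjoin_singleton A x⟩
  have hx' : x' * algebraMap A A' (b ^ N) = algebraMap A A' a :=
    Subtype.ext (div_mul_cancel₀ (algebraMap A F a) hbN0)
  -- the branch through `P`
  let L := FractionRing (B ⧸ P)
  let jL : (B ⧸ P) →+* L := algebraMap (B ⧸ P) L
  have hjL : Function.Injective jL := IsFractionRing.injective _ _
  let θ0 : A →+* L := (jL.comp (Ideal.Quotient.mk P)).comp f
  have hθ0 : Function.Injective θ0 := by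
    rw [injective_iff_map_eq_zero]
    intro r hr
    refine hinjP r (Ideal.Quotient.eq_zero_iff_mem.mp (hjL ?_))
    rw [map_zero]; exact hr
  letI : Algebra A L := θ0.toAlgebra
  let θ : F →ₐ[A] L := IsFractionRing.liftAlgHom (g := Algebra.ofId A L) hθ0
  let j : (B ⧸ P) →ₐ[A] L := { jL with commutes' := fun r => rfl }
  let d : B ⧸ P := Ideal.Quotient.mk P (-c)
  have hxd : θ x = j d := by
    have h : θ (algebraMap A F a) = θ0 a := θ.commutes a
    have h' : θ bN = θ0 (b ^ N) := θ.commutes (b ^ N)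
    change θ (algebraMap A F a / bN) = jL (Ideal.Quotient.mk P (-c))
    rw [map_div₀, h, h', div_eq_iff (fun e => hb0 (eq_zero_of_pow_eq_zero (n := N)
      (hθ0 (e.trans (map_zero θ0).symm))))]
    change jL (Ideal.Quotient.mk P (f a)) = jL (Ideal.Quotient.mk P (-c)) * jL (Ideal.Quotient.mk P (f (b ^ N)))
    rw [← map_mul, ← map_mul, hfa, map_sub, Ideal.Quotient.eq_zero_iff_mem.mpr (hKP huK), zero_sub]
    simp only [neg_mul, map_neg, zero_sub]
  have hrange : (θ.comp A'.val).range ≤ j.range := by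
    rintro _ ⟨⟨z, hz⟩, rfl⟩
    have h : A' ≤ j.range.comap θ := Algebra.adjoin_le (by
      rintro _ rfl
      exact ⟨d, hxd.symm⟩)
    exact h hz
  let ψ : A' →ₐ[A] (B ⧸ P) := (AlgEquiv.ofInjective j hjL).symm.toAlgHom.comp
    ((θ.comp A'.val).codRestrict j.range fun z => hrange ⟨z, rfl⟩)
  have hψ : ∀ z, j (ψ z) = θ (z : F) := fun z => by
    have h := (AlgEquiv.ofInjective j hjL).apply_symm_apply
      ((θ.comp A'.val).codRestrict j.range (fun z => hrange ⟨z, rfl⟩) z)
    exact congrArg Subtype.val h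
  have : IsLocalRing (B ⧸ P) := .of_surjective' _ Ideal.Quotient.mk_surjective
  have : IsLocalHom (Ideal.Quotient.mk P) := .of_surjective _ Ideal.Quotient.mk_surjective
  let n := (maximalIdeal (B ⧸ P)).comap ψ.toRingHom
  have hnA : n.under A = maximalIdeal A := by
    ext r
    show ψ (algebraMap A A' r) ∈ maximalIdeal (B ⧸ P) ↔ _
    rw [ψ.commutes, IsScalarTower.algebraMap_apply A B (B ⧸ P), Ideal.Quotient.algebraMap_eq,
      ← Ideal.mem_comap, maximalIdeal_comap, ← Ideal.mem_comap, maximalIdeal_comap]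
  have hnmax : n.IsMaximal :=
    Ideal.isMaximal_of_isIntegral_of_isMaximal_comap (R := A) n (by
      have h := hnA
      rw [Ideal.under_def] at h
      rw [h]; infer_instance)
  have hdim := S4689.result A A' hA n
  -- `n` is minimal over `b`
  have hmin : n ∈ (Ideal.span {algebraMap A A' b}).minimalPrimes := by
    refine ⟨⟨inferInstance, ?_⟩, fun r hr hrn => ?_⟩
    · rw [Ideal.span_singleton_le_iff_mem]
      exact (SetLike.ext_iff.mp hnA b).mpr hbm
    · have hrp := hr.1
      have hbr : algebraMap A A' b ∈ r := hr.2 (Ideal.mem_span_singleton_self _)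
      suffices hall : maximalIdeal A ≤ r.under A by
        have hu : r.under A = maximalIdeal A :=
          le_antisymm (le_maximalIdeal (Ideal.IsPrime.ne_top inferInstance)) hall
        have hrmax : r.IsMaximal := Ideal.isMaximal_of_isIntegral_of_isMaximal_comap (R := A) r (by
          rw [Ideal.under_def] at hu
          rw [hu]; infer_instance)
        exact (hrmax.eq_of_le hnmax.ne_top hrn).ge
      intro g hg
      obtain ⟨M, hM⟩ := maximalIdeal_le_radical h1 hPK hbP
        (show f g ∈ maximalIdeal B by rw [hfle]; exact Ideal.mem_map_of_mem f hg)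
      obtain ⟨κ, hκ, w, hw, hκw⟩ := Submodule.mem_sup.mp hM
      obtain ⟨γ, rfl⟩ := Ideal.mem_span_singleton'.mp hw
      have key : ∀ k : ℕ, ∃ e ∉ n, algebraMap A A' (g ^ M) * e ∈
          Ideal.span {algebraMap A A' b} ⊔ (maximalIdeal A ^ k).map (algebraMap A A') := by
        intro k
        obtain ⟨a0, ha0⟩ := Lib.FSAdic.Completion.exists_sub_mem
          (Ideal.fg_of_isNoetherianRing (maximalIdeal A)) (k + 1) (-c)
        rw [← Ideal.map_pow] at ha0
        refine ⟨1 - x' + algebraMap A A' a0, ?_, ?_⟩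
        · intro he
          have hx : ψ x' = d := hjL ((hψ x').trans hxd)
          have h1' : ψ (1 - x' + algebraMap A A' a0) = 1 - Ideal.Quotient.mk P (-c - f a0) := by
            rw [map_add, map_sub, map_one, hx, ψ.commutes, map_sub, sub_sub_eq_add_sub,
              sub_add_eq_add_sub]
            rfl
          have hδ : Ideal.Quotient.mk P (-c - f a0) ∈ maximalIdeal (B ⧸ P) := by
            rw [← Ideal.mem_comap, maximalIdeal_comap, hfle]
            exact Ideal.map_mono (Ideal.pow_le_self k.succ_ne_zero) ha0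
          have := isUnit_one_sub_self_of_mem_nonunits _ hδ
          exact (show ψ (1 - x' + algebraMap A A' a0) ∈ maximalIdeal (B ⧸ P) from he)
            (h1' ▸ this)
        · have hB : f (g ^ M * (b ^ N - a + a0 * b ^ N)) ∈
              (Ideal.span {b ^ (N + 1), a * b} ⊔ Ideal.span {b ^ N} * maximalIdeal A ^ (k + 1)).map f := by
            rw [Ideal.map_sup, Ideal.map_mul, Ideal.map_span, Ideal.map_span, Set.image_pair,
              Set.image_singleton]
            have e : f (g ^ M * (b ^ N - a + a0 * b ^ N)) =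
                (γ * (1 - c) * f (b ^ (N + 1)) + (-γ) * f (a * b)) +
                  f (b ^ N) * (-(f (g ^ M) * (-c - f a0))) := by
              simp only [map_mul, map_add, map_sub, map_pow, pow_succ] at hκw huv ⊢
              have hfa' : f a = uu - c * f b ^ N := by rw [hfa, map_pow]
              rw [hfa']
              linear_combination (f b ^ N - uu) * (-hκw) + κ * (-huv) + σ * hKs κ hκ
            rw [e]
            refine Submodule.add_mem_sup (Ideal.mem_span_pair.mpr ⟨_, _, rfl⟩)
              (Ideal.mul_mem_mul (Ideal.mem_span_singleton_self _) ?_)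
            exact neg_mem (Ideal.mul_mem_left _ _ ha0)
          have hA' : g ^ M * (b ^ N - a + a0 * b ^ N) ∈
              ((Ideal.span {b ^ (N + 1), a * b} ⊔ Ideal.span {b ^ N} * maximalIdeal A ^ (k + 1)).map f).comap f := hB
          rw [Ideal.comap_map_eq_self_of_faithfullyFlat, Submodule.mem_sup] at hA'
          obtain ⟨y, hy, z, hz, hyz⟩ := hA'
          obtain ⟨p₁, p₂, rfl⟩ := Ideal.mem_span_pair.mp hy
          obtain ⟨z', hz', rfl⟩ := Ideal.mem_span_singleton_mul.mp hz
          have heq : algebraMap A A' (g ^ M) * (1 - x' + algebraMap A A' a0) =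
              (algebraMap A A' p₁ + algebraMap A A' p₂ * x') * algebraMap A A' b +
                algebraMap A A' z' := by
            refine mul_right_cancel₀ (b := algebraMap A A' (b ^ N)) ?_ ?_
            · simp [hb0]
            · have h := congrArg (algebraMap A A') hyz
              simp only [map_mul, map_add, map_sub, map_pow, pow_succ] at h hx' ⊢
              linear_combination -h - (algebraMap A A' g ^ M + algebraMap A A' p₂ * algebraMap A A' b) * hx'
          rw [heq]
          exact Submodule.add_mem_sup (Ideal.mul_mem_left _ _ (Ideal.mem_span_singleton_self _))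
            (Ideal.mem_map_of_mem _ (Ideal.pow_le_pow_right k.le_succ hz'))
      have hsep : algebraMap A A' (g ^ M) ∈ r := by
        refine mem_of_forall_unit_mul (n := n) hrn ((maximalIdeal A).map (algebraMap A A')) ?_ _
          fun k => ?_
        · rw [Ideal.map_le_iff_le_comap]
          exact hnA.ge
        · obtain ⟨e, he, hmem⟩ := key k
          refine ⟨e, he, ?_⟩
          rw [Ideal.map_pow] at hmem
          exact sup_le_sup_right ((Ideal.span_singleton_le_iff_mem _).mpr hbr) _ hmem
      rw [map_pow] at hsep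
      exact hrp.mem_of_pow_mem M hsep
  have hh := Ideal.height_le_one_of_isPrincipal_of_mem_minimalPrimes _ _ hmin
  rw [IsLocalization.AtPrime.ringKrullDim_eq_height n] at hdim
  exact hd (hdim ▸ by exact_mod_cast hh)

/-- Ratliff's theorem for domains. -/
theorem isFormallyEquidim_of_isUniversallyCatenary : ∀ (d : ℕ) (A : Type u) [CommRing A]
    [IsLocalRing A] [IsNoetherianRing A] [IsDomain A], CAlg.IsUniversallyCatenary A →
      ringKrullDim A = ((d : ℕ∞) : WithBot ℕ∞) → EGA4.IsFormallyEquidim A := by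
  intro d
  induction d using Nat.strong_induction_on with | _ d ih => ?_
  intro A _ _ _ _ hA hd P hP
  have hB : ringKrullDim (EGA4.Cpl A) = ringKrullDim A :=
    Lib.Regular.Completion.ringKrullDim_eq _ (maximalIdeal.isMaximal A).ne_top
  show ringKrullDim (EGA4.Cpl A ⧸ P) = ringKrullDim (EGA4.Cpl A)
  have := hP.1.1
  have : IsLocalRing (EGA4.Cpl A ⧸ P) := .of_surjective' _ Ideal.Quotient.mk_surjective
  obtain ⟨r, hr⟩ := Basic.exists_nat_dim (EGA4.Cpl A ⧸ P)
  have hle : ringKrullDim (EGA4.Cpl A ⧸ P) ≤ ringKrullDim (EGA4.Cpl A) :=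
    _root_.ringKrullDim_quotient_le P
  rw [hB, hr, hd] at hle ⊢
  norm_cast at hle ⊢
  have hcatB := Cpl.isCatenary_cpl (A := A)
  match r, hr with
  | 0, hr =>
    by_contra hne
    have hPm : P = maximalIdeal (EGA4.Cpl A) := by
      by_contra hPm
      have h := Lib.Depth.Assoc.ringKrullDim_quotient_add_one_le_of_lt
        (lt_of_le_of_ne (le_maximalIdeal hP.1.1.ne_top) hPm)
      have : IsLocalRing (EGA4.Cpl A ⧸ maximalIdeal (EGA4.Cpl A)) :=
        .of_surjective' _ Ideal.Quotient.mk_surjective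
      obtain ⟨a, ha⟩ := Basic.exists_nat_dim (EGA4.Cpl A ⧸ maximalIdeal (EGA4.Cpl A))
      rw [ha, hr] at h
      norm_cast at h
    have h0 : (maximalIdeal (EGA4.Cpl A)).height = 0 :=
      Ideal.height_eq_zero_iff.mpr (hPm ▸ hP)
    have h := maximalIdeal_height_eq_ringKrullDim (R := EGA4.Cpl A)
    rw [h0, hB, hd] at h
    norm_cast at h
  | 1, hr =>
    have h := dim_le_one hA hP (by rw [hr]; norm_cast)
    rw [hd] at h
    norm_cast at h
    omega
  | r + 2, hr =>
    classical
    let S0 : Set (Ideal (EGA4.Cpl A)) :=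
      {R | ∃ Pj ∈ minimalPrimes (EGA4.Cpl A), R ∈ (P ⊔ Pj).minimalPrimes ∧
        R ≠ maximalIdeal (EGA4.Cpl A)}
    have hS0 : S0.Finite := by
      refine ((minimalPrimes.finite_of_isNoetherianRing (EGA4.Cpl A)).biUnion
        fun Pj _ => Ideal.finite_minimalPrimes_of_isNoetherianRing _ (P ⊔ Pj)).subset ?_
      rintro R ⟨Pj, h1, h2, -⟩
      exact Set.mem_biUnion h1 h2
    let ps : Finset (Ideal A) := insert ⊥ (hS0.toFinset.image fun R => R.under A)
    have hps : ∀ q ∈ ps, q.IsPrime ∧ q ≠ maximalIdeal A := by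
      intro q hq
      simp only [ps, Finset.mem_insert, Finset.mem_image, Set.Finite.mem_toFinset] at hq
      rcases hq with rfl | ⟨R, ⟨Pj, -, hR, hne⟩, rfl⟩
      · refine ⟨Ideal.isPrime_bot, fun h => ?_⟩
        have h' := maximalIdeal_height_eq_ringKrullDim (R := A)
        rw [← h, Ideal.height_bot, hd] at h'
        norm_cast at h'
        omega
      · have := hR.1.1
        refine ⟨inferInstance, fun h => hne (le_antisymm (le_maximalIdeal hR.1.1.ne_top) ?_)⟩
        rw [AdicCompletion.maximalIdeal_eq_map, Ideal.map_le_iff_le_comap]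
        exact h.ge
    have hnot : ¬ ((maximalIdeal A : Set A) ⊆ ⋃ q ∈ (ps : Set (Ideal A)), (q : Set A)) := by
      rw [Ideal.subset_union_prime ⊥ ⊥ fun q hq _ _ => (hps q hq).1]
      rintro ⟨q, hq, hmq⟩
      exact (hps q hq).2 ((maximalIdeal.isMaximal A).eq_of_le (hps q hq).1.ne_top hmq).symm
    obtain ⟨x, hxm, hx⟩ := Set.not_subset.mp hnot
    simp only [Set.mem_iUnion, not_exists, Finset.mem_coe] at hx
    have hx0 : x ≠ 0 := fun e => hx ⊥ (Finset.mem_insert_self _ _) (e ▸ Ideal.zero_mem _)
    have hover : ∀ (Q : Ideal (EGA4.Cpl A)), Q ∈ minimalPrimes (EGA4.Cpl A) → Q.under A = ⊥ := by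
      intro Q hQ
      have := hQ.1.1
      obtain ⟨R, hRQ, hR, hRo⟩ :=
        Q.exists_ideal_le_liesOver_of_le (p := (⊥ : Ideal A)) (q := Q.under A) bot_le
      rw [hRo.over, le_antisymm hRQ (hQ.2 ⟨hR, bot_le⟩ hRQ)]
    have hxP : algebraMap A (EGA4.Cpl A) x ∉ P := fun h => hx0 (by
      have h' : x ∈ P.under A := h
      rwa [hover P hP, Ideal.mem_bot] at h')
    obtain ⟨P1, hP1, -⟩ : ∃ P1 ∈ (P ⊔ Ideal.span {algebraMap A (EGA4.Cpl A) x}).minimalPrimes,
        P1 ≤ maximalIdeal (EGA4.Cpl A) :=
      Ideal.exists_minimalPrimes_le (sup_le (le_maximalIdeal hP.1.1.ne_top) (by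
        rw [Ideal.span_singleton_le_iff_mem, AdicCompletion.maximalIdeal_eq_map]
        exact Ideal.mem_map_of_mem _ hxm))
    have := hP1.1.1
    have hcov : (⟨P, inferInstance⟩ : PrimeSpectrum (EGA4.Cpl A)) ⋖ ⟨P1, inferInstance⟩ :=
      Lib.Excellent.CatenaryDim.covBy_of_mem_minimalPrimes hxP hP1
    have hco := Lib.Excellent.CatenaryDim.ringKrullDim_quotient_covBy hcatB hcov
    change ringKrullDim (EGA4.Cpl A ⧸ P) = ringKrullDim (EGA4.Cpl A ⧸ P1) + 1 at hco
    have hxP1 : algebraMap A (EGA4.Cpl A) x ∈ P1 :=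
      hP1.1.2 (Ideal.mem_sup_right (Ideal.mem_span_singleton_self _))
    have hlow : ∀ Q : Ideal (EGA4.Cpl A), Q.IsPrime → Q < P1 → Q ∈ minimalPrimes (EGA4.Cpl A) := by
      intro Q hQ hQlt
      by_contra hQmin
      obtain ⟨Pj, hPj, hPjQ⟩ := Ideal.exists_minimalPrimes_le (J := Q) (bot_le : ⊥ ≤ Q)
      have hne : Pj ≠ P := by
        rintro rfl
        exact hcov.2 (c := (⟨Q, hQ⟩ : PrimeSpectrum (EGA4.Cpl A)))
          (lt_of_le_of_ne hPjQ fun e => hQmin (by rw [← show _ = Q from congrArg PrimeSpectrum.asIdeal e]; exact hPj)) hQlt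
      have hmin : P1 ∈ (P ⊔ Pj).minimalPrimes := by
        refine ⟨⟨inferInstance, sup_le hcov.le (hPjQ.trans hQlt.le)⟩, fun R hR hRP1 => ?_⟩
        have := hR.1
        have hPR : P ≤ R := le_sup_left.trans hR.2
        rcases eq_or_lt_of_le hPR with e | hlt
        · have hle' : Pj ≤ P := e.symm ▸ le_sup_right.trans hR.2
          exact absurd (le_antisymm hle' (hP.2 ⟨hPj.1.1, bot_le⟩ hle')) hne
        · by_contra hnot'
          exact hcov.2 (c := (⟨R, inferInstance⟩ : PrimeSpectrum (EGA4.Cpl A))) hlt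
            (lt_of_le_not_ge hRP1 hnot')
      have hP1m : P1 ≠ maximalIdeal (EGA4.Cpl A) := by
        rintro rfl
        have : IsLocalRing (EGA4.Cpl A ⧸ maximalIdeal (EGA4.Cpl A)) :=
          .of_surjective' _ Ideal.Quotient.mk_surjective
        have h0 : ringKrullDim (EGA4.Cpl A ⧸ maximalIdeal (EGA4.Cpl A)) = 0 :=
          ringKrullDim_eq_zero_of_isField
            ((Ideal.Quotient.maximal_ideal_iff_isField_quotient _).mp inferInstance)
        rw [h0, hr, zero_add] at hco
        norm_cast at hco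
        omega
      exact hx (P1.under A) (Finset.mem_insert_of_mem (Finset.mem_image.mpr
        ⟨P1, hS0.mem_toFinset.mpr ⟨Pj, hPj, hmin, hP1m⟩, rfl⟩)) hxP1
    set p1 := P1.under A with hp1
    have hP1min : P1 ∈ (p1.map (algebraMap A (EGA4.Cpl A))).minimalPrimes := by
      refine ⟨⟨inferInstance, Ideal.map_comap_le⟩, fun Q hQ hQP => ?_⟩
      by_contra hne
      have hxQ : x ∈ Q.under A := Ideal.map_le_iff_le_comap.mp hQ.2 hxP1
      rw [hover Q (hlow Q hQ.1 (lt_of_le_not_ge hQP hne)), Ideal.mem_bot] at hxQ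
      exact hx0 hxQ
    have hht : p1.height = 1 := by
      rw [← Basic.height_eq_of_minimal hP1min]
      refine le_antisymm ?_ ?_
      · rw [← Nat.cast_one, Ideal.height_le_iff]
        intro Q hQ hlt
        rw [Ideal.height_eq_zero_iff.mpr (hlow Q hQ hlt)]
        exact zero_lt_one
      · rw [Order.one_le_iff_ne_zero, Ne, Ideal.height_eq_zero_iff]
        intro h
        have hxQ : x ∈ P1.under A := hxP1
        rw [hover P1 h, Ideal.mem_bot] at hxQ
        exact hx0 hxQ
    have : IsLocalRing (A ⧸ p1) := .of_surjective' _ Ideal.Quotient.mk_surjective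
    have hA1 : CAlg.IsUniversallyCatenary (A ⧸ p1) := by
      refine ⟨inferInstance, fun S _ _ hS => ?_⟩
      letI : Algebra A S := ((algebraMap (A ⧸ p1) S).comp (Ideal.Quotient.mk p1)).toAlgebra
      haveI : IsScalarTower A (A ⧸ p1) S := .of_algebraMap_eq' rfl
      exact hA.2 S (Algebra.FiniteType.trans (inferInstance : Algebra.FiniteType A (A ⧸ p1)) hS)
    have hdim := Basic.height_add_dim (B := A) Cpl.isEquidim_of_isDomain (hA.2 A inferInstance) p1
    obtain ⟨e, he⟩ := Basic.exists_nat_dim (A ⧸ p1)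
    rw [he, hht, hd] at hdim
    norm_cast at hdim
    have h1 := (Cpl.isFormallyEquidim_quotient_iff_map p1).mp (ih e (by omega) _ hA1 he)
    rw [Basic.isEquidim_quotient_iff] at h1
    obtain ⟨qe⟩ := Cpl.exists_quotEquiv p1
    have h2 := Basic.ringKrullDim_quotient_of_forall hP1min fun q hq => (h1 q hq P1 hP1min).le
    rw [ringKrullDim_eq_of_ringEquiv qe,
      Lib.Regular.Completion.ringKrullDim_eq _ (maximalIdeal.isMaximal (A ⧸ p1)).ne_top, he] at h2
    rw [hr, ← h2] at hco
    norm_cast at hco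
    omega

omit [IsDomain A] in
/-- Universally catenary local rings are formally catenary. -/
theorem isFormallyCatenary (hA : CAlg.IsUniversallyCatenary A) : EGA4.IsFormallyCatenary A := by
  intro p hp
  have : IsLocalRing (A ⧸ p) := .of_surjective' _ Ideal.Quotient.mk_surjective
  have h1 : CAlg.IsUniversallyCatenary (A ⧸ p) := by
    refine ⟨inferInstance, fun S _ _ hS => ?_⟩
    letI : Algebra A S := ((algebraMap (A ⧸ p) S).comp (Ideal.Quotient.mk p)).toAlgebra
    haveI : IsScalarTower A (A ⧸ p) S := .of_algebraMap_eq' rfl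
    exact hA.2 S (Algebra.FiniteType.trans (inferInstance : Algebra.FiniteType A (A ⧸ p)) hS)
  obtain ⟨d, hd⟩ := Basic.exists_nat_dim (A ⧸ p)
  exact isFormallyEquidim_of_isUniversallyCatenary d _ h1 hd

end Groth.Agent.H18.FEquidim.Ratliff
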